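import Mathlib
import Groth.Prelude.Def_EGA4b
import Groth.Agent.Lib.Depth.Transfer
import Groth.Agent.Lib.Depth.Local
import Groth.Agent.Lib.DimCut.StalkFibre
import Groth.Agent.Lib.FlatModel.Descent

/-!
# Depth of a flat module is at least the depth of its fibre stalk
-/

set_option autoImplicit false
universe u

open IsLocalRing

namespace GrothLib.FlatOff

variable {A B : Type u} [CommRing A] [CommRing B] [Algebra A B] [IsNoetherianRing B]
  (q : Ideal B) [q.IsPrime] (E : Type u) [AddCommGroup E] [Module B E] [Module A E] [IsScalarTower A B E]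
  [Module.Finite B E] [Module.Flat A E]

theorem le_depth_of_fibLoc (n : ℕ)
    (h : (n : ℕ∞) ≤ LocCoh.idealDepth (q.map (algebraMap B (EGA4.FibLocRing A B q))) (EGA4.FibLocMod A B q E)) :
    (n : ℕ∞) ≤ LocCoh.depth (Localization.AtPrime q) (LocalizedModule q.primeCompl E) := by
  let Bq := Localization.AtPrime q
  let N := LocalizedModule q.primeCompl E
  let p := q.comap (algebraMap A B)
  let Ap := Localization.AtPrime p
  haveI : IsNoetherianRing Bq := IsLocalization.isNoetherianRing q.primeCompl _ inferInstance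
  let φ : Ap →+* Bq := Localization.localRingHom p q (algebraMap A B) rfl
  letI : Algebra Ap Bq := φ.toAlgebra
  haveI : IsLocalHom (algebraMap Ap Bq) := Localization.isLocalHom_localRingHom p q (algebraMap A B) rfl
  haveI : IsScalarTower A Ap Bq := IsScalarTower.of_algebraMap_eq fun a => by
    rw [IsScalarTower.algebraMap_apply A B Bq, RingHom.algebraMap_toAlgebra,
      Localization.localRingHom_to_map]
  letI : Module Ap N := Module.compHom N φ
  haveI : IsScalarTower Ap Bq N := IsScalarTower.of_algebraMap_smul fun _ _ => rfl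
  haveI : IsScalarTower A Bq N := IsScalarTower.of_algebraMap_smul fun a x => by
    rw [IsScalarTower.algebraMap_apply A B Bq, algebraMap_smul, algebraMap_smul]
  haveI : IsScalarTower A Ap N := IsScalarTower.of_algebraMap_smul fun a x => by
    show φ (algebraMap A Ap a) • x = a • x
    rw [show φ (algebraMap A Ap a) = algebraMap A Bq a from (IsScalarTower.algebraMap_apply A Ap Bq a).symm,
      algebraMap_smul]
  haveI : Module.Flat A N := GrothLib.FlatModel.flat_localizedModule q.primeCompl
  haveI : Module.Flat Ap N := (Module.flat_iff_of_isLocalization Ap p.primeCompl N).2 ‹Module.Flat A N›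
  have hmA : p.map (algebraMap A Bq) = (maximalIdeal Ap).map (algebraMap Ap Bq) := by
    rw [← Localization.AtPrime.map_eq_maximalIdeal (I := p), Ideal.map_map, ← IsScalarTower.algebraMap_eq]
  let I : Ideal Bq := p.map (algebraMap A Bq)
  have hI : q.map (algebraMap B (EGA4.FibLocRing A B q)) =
      (maximalIdeal Bq).map (algebraMap Bq (EGA4.FibLocRing A B q)) := by
    rw [← Localization.AtPrime.map_eq_maximalIdeal, Ideal.map_map, ← IsScalarTower.algebraMap_eq]
  rw [hI, GrothLib.Depth.idealDepth_map_eq] at h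
  show (n : ℕ∞) ≤ LocCoh.idealDepth (maximalIdeal Bq) N
  by_cases hN : maximalIdeal Bq • (⊤ : Submodule Bq N) = ⊤
  · rw [LocCoh.idealDepth, if_pos hN]
    exact le_top
  rw [GrothLib.Depth.le_idealDepth_iff_exists _ hN]
  have hF : maximalIdeal Bq • (⊤ : Submodule Bq (EGA4.FibLocMod A B q E)) ≠ ⊤ := by
    intro hF
    refine hN (top_le_iff.1 fun x _ => ?_)
    let π : N →ₗ[Bq] EGA4.FibLocMod A B q E := (I • (⊤ : Submodule Bq N)).mkQ
    have hle : I ≤ maximalIdeal Bq := by
      show p.map (algebraMap A Bq) ≤ _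
      rw [hmA, Ideal.map_le_iff_le_comap]
      exact fun a ha hu => ha (isUnit_of_map_unit (algebraMap Ap Bq) a hu)
    have h1 : π x ∈ (maximalIdeal Bq • (⊤ : Submodule Bq N)).map π := by
      rw [Submodule.map_smul'', Submodule.map_top, Submodule.range_mkQ, hF]
      trivial
    obtain ⟨y, hy, hxy⟩ := h1
    have h2 : y - x ∈ I • (⊤ : Submodule Bq N) := (Submodule.Quotient.eq _).1 hxy
    have h3 := Submodule.sub_mem _ hy (Submodule.smul_mono_left hle h2)
    rwa [sub_sub_cancel] at h3
  obtain ⟨rs, hlen, hmem, hreg⟩ := (GrothLib.Depth.le_idealDepth_iff_exists _ hF n).1 h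
  refine ⟨rs, hlen, hmem, GrothLib.DimCut.isWeaklyRegular_of_fibre (A := Ap) rs N ?_⟩
  exact ((Submodule.quotEquivOfEq (I • (⊤ : Submodule Bq N))
    ((maximalIdeal Ap).map (algebraMap Ap Bq) • ⊤) (by rw [show I = _ from hmA])).isWeaklyRegular_congr rs).1 hreg

/-- depth along `J` from fibrewise depth at the primes containing `J` -/
theorem le_idealDepth_of_forall_fibLoc (J : Ideal B) (n : ℕ)
    (h : ∀ q : PrimeSpectrum B, J ≤ q.asIdeal →
      (n : ℕ∞) ≤ LocCoh.idealDepth (q.asIdeal.map (algebraMap B (EGA4.FibLocRing A B q.asIdeal)))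
        (EGA4.FibLocMod A B q.asIdeal E)) :
    (n : ℕ∞) ≤ LocCoh.idealDepth J E := by
  cases hd : LocCoh.idealDepth J E using ENat.recTopCoe with
  | top => exact le_top
  | coe d =>
    obtain ⟨q, hq, hle⟩ := GrothLib.Depth.exists_depth_localization_le J d hd
    exact (le_depth_of_fibLoc q.asIdeal E n (h q hq)).trans hle

end GrothLib.FlatOff

namespace GrothLib.FlatOff

variable {A B : Type u} [CommRing A] [CommRing B] [Algebra A B] [IsNoetherianRing B] [Module.Flat A B]

omit [Module.Flat A B] in
/-- the fibre stalk of `B` and the fibre local ring have the same depth -/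
theorem fibLocMod_ring_depth (q : Ideal B) [q.IsPrime] (n : ℕ∞)
    (h : n ≤ LocCoh.idealDepth (q.map (algebraMap B (EGA4.FibLocRing A B q))) (EGA4.FibLocRing A B q)) :
    n ≤ LocCoh.idealDepth (q.map (algebraMap B (EGA4.FibLocRing A B q))) (EGA4.FibLocMod A B q B) := by
  let Bq := Localization.AtPrime q
  haveI : IsNoetherianRing Bq := IsLocalization.isNoetherianRing q.primeCompl _ inferInstance
  let I : Ideal Bq := (q.comap (algebraMap A B)).map (algebraMap A Bq)
  let e₀ : LocalizedModule q.primeCompl B ≃ₗ[Bq] Bq :=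
    (LocalizedModule.equivTensorProduct q.primeCompl B).trans (TensorProduct.AlgebraTensorModule.rid B Bq Bq)
  let e : EGA4.FibLocMod A B q B ≃ₗ[Bq] EGA4.FibLocRing A B q :=
    Submodule.Quotient.equiv _ _ e₀ (by
      rw [Submodule.map_smul'', Submodule.map_top, LinearEquiv.range, smul_eq_mul, Ideal.mul_top])
  have hI : q.map (algebraMap B (EGA4.FibLocRing A B q)) =
      (IsLocalRing.maximalIdeal Bq).map (algebraMap Bq (EGA4.FibLocRing A B q)) := by
    rw [← Localization.AtPrime.map_eq_maximalIdeal, Ideal.map_map, ← IsScalarTower.algebraMap_eq]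
  rw [hI, GrothLib.Depth.idealDepth_map_eq] at h ⊢
  rwa [GrothLib.Depth.idealDepth_eq_of_equiv _ e]

/-- depth of `B` along `J` from the depths of the fibre local rings -/
theorem le_idealDepth_ring (J : Ideal B) (n : ℕ)
    (h : ∀ q : PrimeSpectrum B, J ≤ q.asIdeal →
      (n : ℕ∞) ≤ LocCoh.idealDepth (q.asIdeal.map (algebraMap B (EGA4.FibLocRing A B q.asIdeal)))
        (EGA4.FibLocRing A B q.asIdeal)) :
    (n : ℕ∞) ≤ LocCoh.idealDepth J B :=
  le_idealDepth_of_forall_fibLoc (A := A) B J n fun q hq => fibLocMod_ring_depth q.asIdeal n (h q hq)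

end GrothLib.FlatOff
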