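import Groth.Agent.Lib.FlatOff.LocalDepth
import Groth.Agent.Lib.FlatOff.FibDepth
import Groth.Agent.Lib.SyntLoc.Sk
import Groth.Agent.Lib.DepthKer.Basic

/-!
# `(S₂)` of fibre local rings under generisation; fibres along surjections
-/

set_option autoImplicit false
set_option linter.style.haveILetI false
universe u

open Function IsLocalRing TensorProduct

namespace GrothLib.FlatOff

theorem hasSk_congr {k : ℕ} {D D' : Type u} [CommRing D] [CommRing D'] [IsNoetherianRing D]
    (e : D ≃+* D') (h : LocCoh.HasSk k D D) : LocCoh.HasSk k D' D' := by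
  letI : Algebra D D' := e.toRingHom.toAlgebra
  haveI : IsLocalization (⊥ : Submonoid D) D' :=
    { map_units := fun ⟨y, hy⟩ => by obtain rfl := Submonoid.mem_bot.1 hy; exact isUnit_one.map _
      surj := fun z => ⟨(e.symm z, 1), by
        show z * algebraMap D D' ((1 : (⊥ : Submonoid D)) : D) = e (e.symm z)
        rw [OneMemClass.coe_one, map_one, mul_one, e.apply_symm_apply]⟩
      exists_of_eq := fun {x y} hxy => ⟨1, by rw [e.injective hxy]⟩ }
  exact GrothLib.SyntLoc.hasSk_localization h (⊥ : Submonoid D) D'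

theorem isLocalRing_fibLocRing {A B : Type u} [CommRing A] [CommRing B] [Algebra A B] (q : Ideal B) [q.IsPrime] :
    IsLocalRing (EGA4.FibLocRing A B q) := by
  haveI : Nontrivial (EGA4.FibLocRing A B q) := Ideal.Quotient.nontrivial_iff.2 (ne_of_lt (lt_of_le_of_lt
    ((Ideal.map_le_iff_le_comap (K := maximalIdeal (Localization.AtPrime q))).2 fun a (ha : algebraMap A B a ∈ q) => show algebraMap A (Localization.AtPrime q) a ∈ maximalIdeal _ by
      rw [IsScalarTower.algebraMap_apply A B (Localization.AtPrime q)]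
      exact (IsLocalization.AtPrime.to_map_mem_maximal_iff _ q _).2 ha)
    (lt_top_iff_ne_top.2 (maximalIdeal.isMaximal _).ne_top)))
  exact IsLocalRing.of_surjective' (Ideal.Quotient.mk _) Ideal.Quotient.mk_surjective

theorem skBound_fibLocRing_of_le {A B : Type u} [CommRing A] [CommRing B] [Algebra A B] [IsNoetherianRing B] {k : ℕ}
    (q r : Ideal B) [q.IsPrime] [r.IsPrime] (hle : r ≤ q)
    (hp : r.comap (algebraMap A B) = q.comap (algebraMap A B))
    (h : LocCoh.HasSk k (EGA4.FibLocRing A B q) (EGA4.FibLocRing A B q)) :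
    haveI := isLocalRing_fibLocRing (A := A) r
    GrothLib.SyntLoc.SkBound k (EGA4.FibLocRing A B r) := by
  haveI := isLocalRing_fibLocRing (A := A) r
  let I : Ideal B := (q.comap (algebraMap A B)).map (algebraMap A B)
  let Xq := Localization.AtPrime q
  let Xr := Localization.AtPrime r
  let Tq := Xq ⧸ I.map (algebraMap B Xq)
  let Tr := Xr ⧸ I.map (algebraMap B Xr)
  have eq' : (q.comap (algebraMap A B)).map (algebraMap A Xq) = I.map (algebraMap B Xq) := by
    rw [Ideal.map_map, ← IsScalarTower.algebraMap_eq]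
  have er' : (r.comap (algebraMap A B)).map (algebraMap A Xr) = I.map (algebraMap B Xr) := by
    rw [Ideal.map_map, ← IsScalarTower.algebraMap_eq, hp]
  haveI : IsNoetherianRing Xq := IsLocalization.isNoetherianRing q.primeCompl _ inferInstance
  haveI : IsNoetherianRing Xr := IsLocalization.isNoetherianRing r.primeCompl _ inferInstance
  let ψ₀ : Xq →+* Xr := IsLocalization.lift (M := q.primeCompl) (g := algebraMap B Xr) fun b =>
    IsLocalization.map_units Xr (⟨b, fun hb => b.2 (hle hb)⟩ : r.primeCompl)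
  have hψ₀ : ψ₀.comp (algebraMap B Xq) = algebraMap B Xr := IsLocalization.lift_comp _
  let ψ : Tq →+* Tr := Ideal.quotientMap _ ψ₀ (by
    rw [← Ideal.map_le_iff_le_comap, Ideal.map_map, hψ₀])
  letI : Algebra Tq Tr := ψ.toAlgebra
  haveI : IsScalarTower (B ⧸ I) Tq Tr := IsScalarTower.of_algebraMap_eq fun x => by
    obtain ⟨b, rfl⟩ := Ideal.Quotient.mk_surjective x
    show Ideal.Quotient.mk _ (algebraMap B Xr b) = Ideal.Quotient.mk _ (ψ₀ (algebraMap B Xq b))
    rw [← hψ₀]; rfl
  have hM : Algebra.algebraMapSubmonoid (B ⧸ I) q.primeCompl ≤ Algebra.algebraMapSubmonoid (B ⧸ I) r.primeCompl :=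
    Submonoid.monotone_map fun b hb hbr => hb (hle hbr)
  haveI := IsLocalization.isLocalization_of_submonoid_le Tq Tr
    (Algebra.algebraMapSubmonoid (B ⧸ I) q.primeCompl) (Algebra.algebraMapSubmonoid (B ⧸ I) r.primeCompl) hM
  have h1 : LocCoh.HasSk k Tq Tq := hasSk_congr (Ideal.quotEquivOfEq eq') h
  have h2 : LocCoh.HasSk k Tr Tr := GrothLib.SyntLoc.hasSk_localization h1
    ((Algebra.algebraMapSubmonoid (B ⧸ I) r.primeCompl).map (algebraMap (B ⧸ I) Tq)) Tr
  exact GrothLib.SyntLoc.skBound_of_hasSk (hasSk_congr (Ideal.quotEquivOfEq er').symm h2)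

/-- depth along `J` of the fibre local ring from `(S₂)` and the codimension bound -/
theorem two_le_depth_fibLocRing {A B : Type u} [CommRing A] [CommRing B] [Algebra A B] [IsNoetherianRing B]
    (J : Ideal B) (q : Ideal B) [q.IsPrime]
    (hS2 : LocCoh.HasSk 2 (EGA4.FibLocRing A B q) (EGA4.FibLocRing A B q))
    (hcodim : ∀ r : PrimeSpectrum B, J ≤ r.asIdeal → r.asIdeal.comap (algebraMap A B) = q.comap (algebraMap A B) →
      (2 : WithBot ℕ∞) ≤ ringKrullDim (EGA4.FibLocRing A B r.asIdeal)) :
    2 ≤ LocCoh.idealDepth (J.map (algebraMap B (EGA4.FibLocRing A B q))) (EGA4.FibLocRing A B q) := by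
  let X := Localization.AtPrime q
  haveI : IsNoetherianRing X := IsLocalization.isNoetherianRing q.primeCompl _ inferInstance
  have h := le_idealDepth_fibLocMod' (A := A) B J q 2 fun r hrq hJr hp => by
    refine fibLocMod_ring_depth r.asIdeal 2 ?_
    haveI : IsNoetherianRing (Localization.AtPrime r.asIdeal) :=
      IsLocalization.isNoetherianRing r.asIdeal.primeCompl _ inferInstance
    haveI := isLocalRing_fibLocRing (A := A) r.asIdeal
    have hb : GrothLib.SyntLoc.SkBound 2 (EGA4.FibLocRing A B r.asIdeal) := skBound_fibLocRing_of_le q r.asIdeal hrq hp hS2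
    unfold GrothLib.SyntLoc.SkBound at hb
    rw [Nat.cast_ofNat, min_eq_left (hcodim r hJr hp)] at hb
    refine (WithBot.coe_le_coe.1 hb).trans (le_of_eq ?_)
    rw [LocCoh.depth, IsScalarTower.algebraMap_eq B (Localization.AtPrime r.asIdeal) (EGA4.FibLocRing A B r.asIdeal),
      ← Ideal.map_map, Localization.AtPrime.map_eq_maximalIdeal]
    congr 1
    exact (IsLocalRing.map_maximalIdeal_of_surjective _ Ideal.Quotient.mk_surjective).symm
  let D := EGA4.FibLocRing A B q
  obtain ⟨e⟩ := nonempty_fibLocMod_equiv (A := A) B q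
  let e₀ : LocalizedModule q.primeCompl B ≃ₗ[X] X :=
    (LocalizedModule.equivTensorProduct q.primeCompl B).trans (AlgebraTensorModule.rid B X X)
  let e₁ : EGA4.FibLocMod A B q B ≃ₗ[X] D := Submodule.Quotient.equiv _ _ e₀ (by
    rw [Submodule.map_smul'', Submodule.map_top, LinearEquiv.range, smul_eq_mul, Ideal.mul_top])
  haveI : Module.Finite X (EGA4.FibLocMod A B q B) := Module.Finite.equiv e
  rw [GrothLib.Depth.idealDepth_eq_of_equiv _ e₁, ← GrothLib.Depth.idealDepth_map_eq (B := D)] at h
  rw [IsScalarTower.algebraMap_eq B X D, ← Ideal.map_map]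
  exact_mod_cast h

/-- the fibre local rings along a surjection with kernel in `pB` -/
theorem exists_fibLocRing_equiv {R A' C C' : Type u} [CommRing R] [CommRing A'] [CommRing C] [CommRing C']
    [Algebra R A'] [Algebra R C] [Algebra A' C'] [Algebra C C'] [Algebra R C'] [IsScalarTower R C C']
    [IsScalarTower R A' C'] (hA : Surjective (algebraMap R A')) (hC : Surjective (algebraMap C C'))
    (q : Ideal C) [q.IsPrime] (q' : Ideal C') [q'.IsPrime] (hq : q'.comap (algebraMap C C') = q)
    (hker : RingHom.ker (algebraMap C C') ≤ (q.comap (algebraMap R C)).map (algebraMap R C)) :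
    ∃ e : EGA4.FibLocRing R C q ≃+* EGA4.FibLocRing A' C' q',
      ∀ c, e (algebraMap C _ c) = algebraMap C' _ (algebraMap C C' c) := by
  let X := Localization.AtPrime q
  let X' := Localization.AtPrime q'
  let φ : X →+* X' := Localization.localRingHom q q' (algebraMap C C') hq.symm
  have hφ : ∀ c, φ (algebraMap C X c) = algebraMap C' X' (algebraMap C C' c) := fun c =>
    Localization.localRingHom_to_map _ _ _ _ c
  let p := q.comap (algebraMap R C)
  let p' := q'.comap (algebraMap A' C')
  have hpp : ∀ a, algebraMap R A' a ∈ p' ↔ a ∈ p := fun a => by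
    show algebraMap A' C' (algebraMap R A' a) ∈ q' ↔ algebraMap R C a ∈ q
    rw [← IsScalarTower.algebraMap_apply, IsScalarTower.algebraMap_apply R C C', ← hq]
    rfl
  have hp' : p'.map (algebraMap A' X') = (p.map (algebraMap R X)).map φ := by
    have : p' = p.map (algebraMap R A') := by
      refine le_antisymm (fun x hx => ?_) (Ideal.map_le_iff_le_comap.2 fun a ha => (hpp a).2 ha)
      obtain ⟨a, rfl⟩ := hA x
      exact Ideal.mem_map_of_mem _ ((hpp a).1 hx)
    rw [this, Ideal.map_map, Ideal.map_map]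
    congr 1
    refine RingHom.ext fun a => ?_
    show algebraMap A' X' (algebraMap R A' a) = φ (algebraMap R X a)
    rw [IsScalarTower.algebraMap_apply R C X, hφ, IsScalarTower.algebraMap_apply A' C' X',
      ← IsScalarTower.algebraMap_apply R A' C', ← IsScalarTower.algebraMap_apply R C C']
  have hsurj : Surjective φ := fun z => by
    obtain ⟨b, t, rfl⟩ := IsLocalization.exists_mk'_eq q'.primeCompl z
    obtain ⟨c, rfl⟩ := hC b
    obtain ⟨s, hs⟩ := hC (t : C')
    have hsq : s ∉ q := fun h => t.2 (hs ▸ (Ideal.mem_comap.1 (hq.symm ▸ h)))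
    obtain ⟨u, hu⟩ := IsLocalization.map_units X (⟨s, hsq⟩ : q.primeCompl)
    refine ⟨algebraMap C X c * ((u⁻¹ : Xˣ) : X), ?_⟩
    rw [IsLocalization.eq_mk'_iff_mul_eq, ← hs, ← hφ s, ← map_mul, mul_assoc, show algebraMap C X s = (u : X) from hu.symm,
      Units.inv_mul, mul_one, hφ]
  let f : X →+* EGA4.FibLocRing A' C' q' := (Ideal.Quotient.mk _).comp φ
  have hk : RingHom.ker f = p.map (algebraMap R X) := by
    show RingHom.ker ((Ideal.Quotient.mk _).comp φ) = _
    rw [← RingHom.comap_ker, Ideal.mk_ker, hp', Ideal.comap_map_of_surjective _ hsurj, sup_eq_left]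
    intro x hx
    obtain ⟨b, s, rfl⟩ := IsLocalization.exists_mk'_eq q.primeCompl x
    have h0 : algebraMap C' X' (algebraMap C C' b) = 0 := by
      rw [← hφ, ← IsLocalization.mk'_spec X b s, map_mul, Ideal.mem_bot.1 (Ideal.mem_comap.1 hx), zero_mul]
    obtain ⟨t, ht⟩ := (IsLocalization.map_eq_zero_iff q'.primeCompl _ _).1 h0
    obtain ⟨c, hc⟩ := hC (t : C')
    have hcq : c ∉ q := fun h => t.2 (hc ▸ (Ideal.mem_comap.1 (hq.symm ▸ h)))
    have hmem : c * b ∈ p.map (algebraMap R C) := hker (by rw [RingHom.mem_ker, map_mul, hc]; exact ht)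
    rw [IsLocalization.mk'_eq_mul_mk'_one]
    refine Ideal.mul_mem_right _ _ ?_
    have h1 := Ideal.mem_map_of_mem (algebraMap C X) hmem
    rw [Ideal.map_map, ← IsScalarTower.algebraMap_eq, map_mul] at h1
    exact (Ideal.unit_mul_mem_iff_mem _ (IsLocalization.map_units X (⟨c, hcq⟩ : q.primeCompl))).1 h1
  refine ⟨(Ideal.quotEquivOfEq hk.symm).trans (RingHom.quotientKerEquivOfSurjective (f := f)
    (Ideal.Quotient.mk_surjective.comp hsurj)), fun c => ?_⟩
  show f (algebraMap C X c) = _
  show Ideal.Quotient.mk _ (φ (algebraMap C X c)) = _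
  rw [hφ]
  rfl

/-- depth of the fibre stalk of a free module -/
theorem le_idealDepth_fibLocMod_free {A B : Type u} [CommRing A] [CommRing B] [Algebra A B] [IsNoetherianRing B]
    (J : Ideal B) (q : Ideal B) [q.IsPrime] (n : ℕ)
    (h : (n : ℕ∞) ≤ LocCoh.idealDepth (J.map (algebraMap B (EGA4.FibLocRing A B q))) (EGA4.FibLocRing A B q))
    (N : ℕ) :
    (n : ℕ∞) ≤ LocCoh.idealDepth (J.map (algebraMap B (Localization.AtPrime q))) (EGA4.FibLocMod A B q (Fin N → B)) := by
  classical
  let X := Localization.AtPrime q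
  let D := EGA4.FibLocRing A B q
  haveI : IsNoetherianRing X := IsLocalization.isNoetherianRing q.primeCompl _ inferInstance
  let e₀ : LocalizedModule q.primeCompl (Fin N → B) ≃ₗ[X] (Fin N → X) :=
    (LocalizedModule.equivTensorProduct q.primeCompl (Fin N → B)).trans (TensorProduct.piScalarRight B X X (Fin N))
  let P : Ideal X := (q.comap (algebraMap A B)).map (algebraMap A X)
  let red : (Fin N → X) →ₗ[X] (Fin N → D) := (Algebra.linearMap X D).compLeft (Fin N)
  have hred : Surjective red := fun v => by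
    choose w hw using fun i => Ideal.Quotient.mk_surjective (v i)
    exact ⟨w, funext hw⟩
  have hker : LinearMap.ker (red.comp e₀.toLinearMap) = P • (⊤ : Submodule X (LocalizedModule q.primeCompl (Fin N → B))) := by
    rw [LinearMap.ker_comp, ← LinearEquiv.symm_symm e₀, ← Submodule.map_equiv_eq_comap_symm e₀.symm]
    refine le_antisymm ?_ ?_
    · rintro _ ⟨v, hv, rfl⟩
      rw [show v = ∑ i, v i • (Pi.single i (1 : X) : Fin N → X) by funext j; simp [Finset.sum_apply, Pi.single_apply],
        map_sum]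
      refine Submodule.sum_mem _ fun i _ => ?_
      rw [map_smul]
      exact Submodule.smul_mem_smul (Ideal.Quotient.eq_zero_iff_mem.1 (congrFun hv i)) Submodule.mem_top
    · refine Submodule.smul_le.2 fun r hr x _ => ⟨r • e₀ x, funext fun i => ?_, by simp⟩
      show Ideal.Quotient.mk _ (r • e₀ x i) = 0
      rw [smul_eq_mul, Ideal.Quotient.eq_zero_iff_mem]
      exact Ideal.mul_mem_right _ _ hr
  let e : EGA4.FibLocMod A B q (Fin N → B) ≃ₗ[X] (Fin N → D) :=
    (Submodule.quotEquivOfEq _ _ hker.symm).trans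
      ((red.comp e₀.toLinearMap).quotKerEquivOfSurjective (hred.comp e₀.surjective))
  haveI : Module.Finite X (EGA4.FibLocMod A B q (Fin N → B)) := Module.Finite.equiv e.symm
  rw [GrothLib.Depth.idealDepth_eq_of_equiv _ e, ← GrothLib.Depth.idealDepth_map_eq (B := D),
    Ideal.map_map, ← IsScalarTower.algebraMap_eq]
  exact GrothLib.DepthKer.le_idealDepth_pi _ _ h N

end GrothLib.FlatOff
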