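import Mathlib
import Groth.Agent.Lib.FlatOff.FibDepth

/-!
# Fibre depth bounds the depth after any base change
-/

set_option autoImplicit false
universe u

open IsLocalRing TensorProduct Function RingTheory.Sequence
open scoped Pointwise

namespace GrothLib.FlatOff

section Pushout

variable {A B A' B' : Type u} [CommRing A] [CommRing B] [CommRing A'] [CommRing B'] [Algebra A B]
  [Algebra A A'] [Algebra B B'] [Algebra A' B'] [Algebra A B'] [IsScalarTower A B B'] [IsScalarTower A A' B']
  [Algebra.IsPushout A B A' B']
  {M N Q : Type u} [AddCommGroup M] [Module B M] [Module A M] [IsScalarTower A B M]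
  [AddCommGroup N] [Module B N] [Module A N] [IsScalarTower A B N]
  [AddCommGroup Q] [Module B Q] [Module A Q] [IsScalarTower A B Q] [Module.Flat A Q]

include A A' in
/-- injections with `A`-flat cokernel survive base change to flat modules over a pushout -/
theorem lTensor_injective_pushout (g : M →ₗ[B] N) (h : N →ₗ[B] Q) (hg : Injective g) (hh : Surjective h)
    (hex : Function.Exact g h) (X : Type u) [AddCommGroup X] [Module B' X] [Module B X]
    [IsScalarTower B B' X] [Module.Flat B' X] : Injective (g.lTensor X) := by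
  haveI : Algebra.IsPushout A A' B B' := Algebra.IsPushout.symm inferInstance
  let eM := (Algebra.IsPushout.cancelBaseChangeAux A A' B B' M).symm
  let eN := (Algebra.IsPushout.cancelBaseChangeAux A A' B B' N).symm
  have h1 : Injective ((g.restrictScalars A).lTensor A') :=
    LinearMap.lTensor_injective_of_exact_of_flat (h.restrictScalars A) hh (g.restrictScalars A) hg hex A'
  have hc : ∀ z, g.lTensor B' (eM z) = eN ((g.restrictScalars A).lTensor A' z) := fun z => by
    induction z using TensorProduct.induction_on with
    | zero => simp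
    | add a b ha hb => simp only [map_add, ha, hb]
    | tmul a b => simp [eM, eN]
  have h2 : Injective (AlgebraTensorModule.lTensor B' B' g) := fun a b hab => by
    obtain ⟨a, rfl⟩ := eM.surjective a
    obtain ⟨b, rfl⟩ := eM.surjective b
    change g.lTensor B' _ = g.lTensor B' _ at hab
    rw [hc, hc] at hab
    rw [h1 (eN.injective hab)]
  have h3 := Module.Flat.lTensor_preserves_injective_linearMap (M := X)
    (AlgebraTensorModule.lTensor B' B' g) h2
  let cM := AlgebraTensorModule.cancelBaseChange B B' B' X M
  let cN := AlgebraTensorModule.cancelBaseChange B B' B' X N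
  have hcX : ∀ z, g.lTensor X (cM z) = cN ((AlgebraTensorModule.lTensor B' B' g).lTensor X z) := fun z => by
    induction z using TensorProduct.induction_on with
    | zero => simp
    | add a b ha hb => simp only [map_add, ha, hb]
    | tmul a w =>
      induction w using TensorProduct.induction_on with
      | zero => simp
      | add u v hu hv => simp only [tmul_add, map_add, hu, hv]
      | tmul r m => simp [cM, cN]
  intro a b hab
  obtain ⟨a, rfl⟩ := cM.surjective a
  obtain ⟨b, rfl⟩ := cM.surjective b
  rw [hcX, hcX] at hab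
  rw [h3 (cN.injective hab)]

end Pushout

variable {A B A' B' : Type u} [CommRing A] [CommRing B] [CommRing A'] [CommRing B'] [Algebra A B]
  [Algebra A A'] [Algebra B B'] [Algebra A' B'] [Algebra A B'] [IsScalarTower A B B'] [IsScalarTower A A' B']
  [Algebra.IsPushout A B A' B']
  {R S : Type u} [CommRing R] [IsLocalRing R] [CommRing S] [IsLocalRing S] [IsNoetherianRing S]
  [Algebra A R] [Module.Flat A R] [Algebra B S] [Algebra R S] [IsLocalHom (algebraMap R S)]
  [Algebra A S] [IsScalarTower A R S] [IsScalarTower A B S]
  (X : Type u) [CommRing X] [Algebra B' X] [Module.Flat B' X] [Algebra B X] [IsScalarTower B B' X]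
  (ψ : S →+* X)

include A A' B' in
/-- regular sequences on the fibre stay regular on the base change -/
theorem isWeaklyRegular_tensor_of_fibre (rs : List S) : ∀ (M : Type u) [AddCommGroup M] [Module S M] [Module.Finite S M]
    [Module R M] [IsScalarTower R S M] [Module.Flat R M] [Module B M] [IsScalarTower B S M]
    [Module A M] [IsScalarTower A B M] [IsScalarTower A R M],
    (∀ (x : S) (t : X) (m : M), t ⊗ₜ[B] (x • m) = (ψ x * t) ⊗ₜ[B] m) →
    IsWeaklyRegular (M ⧸ ((maximalIdeal R).map (algebraMap R S) • ⊤ : Submodule S M)) rs →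
      IsWeaklyRegular (X ⊗[B] M) (rs.map ψ) := by
  induction rs with
  | nil => intros; exact IsWeaklyRegular.nil X _
  | cons x rs ih =>
    intro M _ _ _ _ _ _ _ _ _ _ _ hψ h
    haveI : IsScalarTower A S M := IsScalarTower.of_algebraMap_smul fun a m => by
      rw [IsScalarTower.algebraMap_apply A B S, algebraMap_smul, algebraMap_smul]
    obtain ⟨h1, h2⟩ := (isWeaklyRegular_cons_iff _ x rs).mp h
    obtain ⟨h3, h4⟩ := GrothLib.DimCut.isSMulRegular_flat_of_fibre (A := R) x h1
    haveI := h4
    let Q := QuotSMulTop x M
    haveI : Module.Flat A Q := Module.Flat.trans A R Q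
    let f : M →ₗ[B] M := (LinearMap.lsmul S M x).restrictScalars B
    let π : M →ₗ[B] Q := (x • ⊤ : Submodule S M).mkQ.restrictScalars B
    have hπ : Surjective π := Submodule.mkQ_surjective _
    have hex : Function.Exact f π := fun m => by
      constructor
      · intro hm
        obtain ⟨y, -, hy⟩ := (Submodule.mem_smul_pointwise_iff_exists _ _ _).1 ((Submodule.Quotient.mk_eq_zero _).1 hm)
        exact ⟨y, hy⟩
      · rintro ⟨y, rfl⟩
        exact (Submodule.Quotient.mk_eq_zero _).2 (Submodule.smul_mem_pointwise_smul y x _ trivial)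
    have hinj : Injective (f.lTensor X) := lTensor_injective_pushout (A := A) (A' := A') (B' := B') f π h3 hπ hex X
    have hf : ∀ z : X ⊗[B] M, f.lTensor X z = ψ x • z := fun z => by
      induction z using TensorProduct.induction_on with
      | zero => simp
      | add a b ha hb => simp only [map_add, smul_add, ha, hb]
      | tmul t m =>
        show t ⊗ₜ[B] (x • m) = _
        rw [hψ, TensorProduct.smul_tmul', smul_eq_mul]
    have hreg : IsSMulRegular (X ⊗[B] M) (ψ x) := fun a b hab => hinj (by rw [hf, hf]; exact hab)
    have hψQ : ∀ (y : S) (t : X) (m : Q), t ⊗ₜ[B] (y • m) = (ψ y * t) ⊗ₜ[B] m := fun y t m => by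
      obtain ⟨m, rfl⟩ := Submodule.Quotient.mk_surjective _ m
      exact congrArg (π.lTensor X) (hψ y t m)
    refine (isWeaklyRegular_cons_iff _ _ _).2 ⟨hreg, ?_⟩
    let p : X ⊗[B] M →ₗ[X] X ⊗[B] Q := AlgebraTensorModule.lTensor X X π
    have hp : Surjective p := LinearMap.lTensor_surjective X hπ
    have hker : LinearMap.ker p = ψ x • (⊤ : Submodule X (X ⊗[B] M)) := by
      ext z
      rw [LinearMap.mem_ker, Submodule.mem_smul_pointwise_iff_exists]
      refine Iff.trans (lTensor_exact X hex hπ z) ?_
      exact ⟨fun ⟨w, hw⟩ => ⟨w, trivial, (hf w).symm.trans hw⟩, fun ⟨w, _, hw⟩ => ⟨w, (hf w).trans hw⟩⟩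
    refine (((Submodule.quotEquivOfEq _ _ hker.symm).trans
      (p.quotKerEquivOfSurjective hp)).isWeaklyRegular_congr _).2 (ih Q hψQ ?_)
    set K := (maximalIdeal R).map (algebraMap R S)
    have hK : (K • ⊤ : Submodule S Q) = (K • ⊤ : Submodule S M).map (x • ⊤ : Submodule S M).mkQ := by
      rw [Submodule.map_smul'', Submodule.map_top, Submodule.range_mkQ]
    have hX : (x • ⊤ : Submodule S (M ⧸ (K • ⊤ : Submodule S M))) =
        (x • ⊤ : Submodule S M).map (K • ⊤ : Submodule S M).mkQ := by
      rw [Submodule.map_pointwise_smul, Submodule.map_top, Submodule.range_mkQ]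
    let e : (QuotSMulTop x (M ⧸ (K • ⊤ : Submodule S M))) ≃ₗ[S] (Q ⧸ (K • ⊤ : Submodule S Q)) :=
      Submodule.quotEquivOfEq _ _ hX ≪≫ₗ Submodule.quotientQuotientEquivQuotientSup _ _ ≪≫ₗ
        Submodule.quotEquivOfEq _ _ (sup_comm _ _) ≪≫ₗ
        (Submodule.quotientQuotientEquivQuotientSup _ _).symm ≪≫ₗ
        (Submodule.quotEquivOfEq _ _ hK).symm
    exact (e.isWeaklyRegular_congr rs).mp h2

end GrothLib.FlatOff
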