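import Mathlib
import Groth.Agent.Lib.FlatOff.BaseDepth

/-!
# Depth along `J` of a base change from fibre depths
-/

set_option autoImplicit false
universe u

open IsLocalRing TensorProduct Function RingTheory.Sequence
open scoped Pointwise

namespace GrothLib.FlatOff

variable {A B A' B' : Type u} [CommRing A] [CommRing B] [CommRing A'] [CommRing B'] [Algebra A B]
  [Algebra A A'] [Algebra B B'] [Algebra A' B'] [Algebra A B'] [IsScalarTower A B B'] [IsScalarTower A A' B']
  [Algebra.IsPushout A B A' B'] [IsNoetherianRing B] [IsNoetherianRing B']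
  (E : Type u) [AddCommGroup E] [Module B E] [Module A E] [IsScalarTower A B E]
  [Module.Finite B E] [Module.Flat A E]

include A A' in
theorem le_depth_baseChange (q' : Ideal B') [q'.IsPrime] (q : Ideal B) [q.IsPrime]
    (hq : q = q'.comap (algebraMap B B')) (n : ℕ)
    (h : (n : ℕ∞) ≤ LocCoh.idealDepth (q.map (algebraMap B (EGA4.FibLocRing A B q))) (EGA4.FibLocMod A B q E)) :
    (n : ℕ∞) ≤ LocCoh.depth (Localization.AtPrime q') (LocalizedModule q'.primeCompl (B' ⊗[B] E)) := by
  let Bq := Localization.AtPrime q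
  let N := LocalizedModule q.primeCompl E
  let p := q.comap (algebraMap A B)
  let Ap := Localization.AtPrime p
  let X := Localization.AtPrime q'
  haveI : IsNoetherianRing Bq := IsLocalization.isNoetherianRing q.primeCompl _ inferInstance
  haveI : IsNoetherianRing X := IsLocalization.isNoetherianRing q'.primeCompl _ inferInstance
  let φ : Ap →+* Bq := Localization.localRingHom p q (algebraMap A B) rfl
  letI : Algebra Ap Bq := φ.toAlgebra
  haveI : IsLocalHom (algebraMap Ap Bq) := Localization.isLocalHom_localRingHom p q (algebraMap A B) rfl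
  haveI : IsScalarTower A Ap Bq := IsScalarTower.of_algebraMap_eq fun a => by
    rw [IsScalarTower.algebraMap_apply A B Bq, RingHom.algebraMap_toAlgebra,
      Localization.localRingHom_to_map]
  letI : Module Ap N := Module.compHom N φ
  haveI : IsScalarTower Ap Bq N := IsScalarTower.of_algebraMap_smul fun _ _ => rfl
  haveI : IsScalarTower A Bq N := IsScalarTower.of_algebraMap_smul fun a x => by
    rw [IsScalarTower.algebraMap_apply A B Bq, algebraMap_smul, algebraMap_smul]
  haveI : IsScalarTower A Ap N := IsScalarTower.of_algebraMap_smul fun a x => by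
    show φ (algebraMap A Ap a) • x = a • x
    rw [show φ (algebraMap A Ap a) = algebraMap A Bq a from (IsScalarTower.algebraMap_apply A Ap Bq a).symm,
      algebraMap_smul]
  haveI : Module.Flat A N := GrothLib.FlatModel.flat_localizedModule q.primeCompl
  haveI : Module.Flat Ap N := (Module.flat_iff_of_isLocalization Ap p.primeCompl N).2 ‹Module.Flat A N›
  haveI : Module.Finite Bq N := Module.Finite.of_isLocalizedModule q.primeCompl (LocalizedModule.mkLinearMap q.primeCompl E)
  let ψ : Bq →+* X := Localization.localRingHom q q' (algebraMap B B') hq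
  haveI : IsLocalHom ψ := Localization.isLocalHom_localRingHom q q' (algebraMap B B') hq
  have hψb : ∀ b, ψ (algebraMap B Bq b) = algebraMap B X b := fun b => by
    show Localization.localRingHom q q' (algebraMap B B') hq _ = _
    rw [Localization.localRingHom_to_map, ← IsScalarTower.algebraMap_apply]
  let ℓ := LocalizedModule.mkLinearMap q.primeCompl E
  have hψ : ∀ (x : Bq) (t : X) (m : N), t ⊗ₜ[B] (x • m) = (ψ x * t) ⊗ₜ[B] m := by
    intro x t m
    obtain ⟨⟨b, s⟩, rfl⟩ := IsLocalization.mk'_surjective q.primeCompl x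
    have h1 : ψ (IsLocalization.mk' Bq b s) * algebraMap B X s = algebraMap B X b := by
      rw [← hψb, ← hψb, ← map_mul, IsLocalization.mk'_spec]
    have h2 : (s : B) • (IsLocalization.mk' Bq b s • m) = b • m := by
      rw [← algebraMap_smul Bq (s : B), smul_smul, IsLocalization.mk'_spec', algebraMap_smul]
    obtain ⟨v, hv⟩ : IsUnit (algebraMap B X s) := by
      rw [← hψb]
      exact (IsLocalization.map_units Bq s).map ψ
    calc t ⊗ₜ[B] (IsLocalization.mk' Bq b s • m)
        = ((s : B) • ((v⁻¹ : Xˣ) : X) * t) ⊗ₜ[B] (IsLocalization.mk' Bq b s • m) := by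
          rw [Algebra.smul_def, ← hv, Units.mul_inv, one_mul]
      _ = (((v⁻¹ : Xˣ) : X) * t) ⊗ₜ[B] (b • m) := by rw [smul_mul_assoc, TensorProduct.smul_tmul, h2]
      _ = (ψ (IsLocalization.mk' Bq b s) * t) ⊗ₜ[B] m := by
          rw [← TensorProduct.smul_tmul, Algebra.smul_def, ← h1, ← hv]
          congr 1
          rw [mul_assoc, ← mul_assoc (v : X), Units.mul_inv, one_mul]
  have hbij : Bijective (ℓ.lTensor X) := by
    have hu : ∀ s : q.primeCompl, IsUnit ((algebraMap B (Module.End B (X →ₗ[B] X ⊗[B] E))) s) := fun s => by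
      obtain ⟨v, hv⟩ : IsUnit (algebraMap B X s) := by
        rw [← hψb]
        exact (IsLocalization.map_units Bq s).map ψ
      rw [Module.End.isUnit_iff]
      refine ⟨fun f g hfg => LinearMap.ext fun t => ?_, fun g =>
        ⟨g.comp ((LinearMap.mul B X) ((v⁻¹ : Xˣ) : X)), LinearMap.ext fun t => ?_⟩⟩
      · have h' : (s : B) • f (((v⁻¹ : Xˣ) : X) * t) = (s : B) • g (((v⁻¹ : Xˣ) : X) * t) :=
          LinearMap.congr_fun hfg (((v⁻¹ : Xˣ) : X) * t)
        rwa [← map_smul, ← map_smul, Algebra.smul_def, ← hv, ← mul_assoc, Units.mul_inv, one_mul] at h'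
      · show (s : B) • g (((v⁻¹ : Xˣ) : X) * t) = g t
        rw [← map_smul, Algebra.smul_def, ← hv, ← mul_assoc, Units.mul_inv, one_mul]
    let L := IsLocalizedModule.lift q.primeCompl ℓ (TensorProduct.mk B X E).flip hu
    have hL : ∀ z, TensorProduct.lift L.flip (ℓ.lTensor X z) = z := fun z => by
      induction z using TensorProduct.induction_on with
      | zero => simp
      | add a b ha hb => simp only [map_add, ha, hb]
      | tmul t e =>
        rw [LinearMap.lTensor_tmul, TensorProduct.lift.tmul, LinearMap.flip_apply,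
          IsLocalizedModule.lift_apply]
        rfl
    refine ⟨fun a b hab => by rw [← hL a, ← hL b, hab], fun z => ?_⟩
    induction z using TensorProduct.induction_on with
    | zero => exact ⟨0, map_zero _⟩
    | add a b ha hb =>
      obtain ⟨a, rfl⟩ := ha
      obtain ⟨b, rfl⟩ := hb
      exact ⟨a + b, map_add _ _ _⟩
    | tmul t m =>
      induction m using LocalizedModule.induction_on with
      | h e s =>
        refine ⟨(ψ (Localization.mk 1 s) * t) ⊗ₜ[B] e, ?_⟩
        rw [LinearMap.lTensor_tmul, ← hψ]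
        congr 1
        show _ • LocalizedModule.mk e 1 = _
        rw [LocalizedModule.mk_smul_mk, one_smul, mul_one]
  let e : X ⊗[B] N ≃ₗ[X] LocalizedModule q'.primeCompl (B' ⊗[B] E) :=
    (LinearEquiv.ofBijective (AlgebraTensorModule.lTensor X X ℓ) hbij).symm.trans
      ((AlgebraTensorModule.cancelBaseChange B B' X X E).symm.trans
        (LocalizedModule.equivTensorProduct q'.primeCompl (B' ⊗[B] E)).symm)
  haveI : Module.Finite X (LocalizedModule q'.primeCompl (B' ⊗[B] E)) :=
    Module.Finite.of_isLocalizedModule q'.primeCompl (LocalizedModule.mkLinearMap q'.primeCompl (B' ⊗[B] E))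
  haveI : Module.Finite X (X ⊗[B] N) := Module.Finite.equiv e.symm
  rw [LocCoh.depth, ← GrothLib.Depth.idealDepth_eq_of_equiv (maximalIdeal X) e]
  by_cases hN : maximalIdeal X • (⊤ : Submodule X (X ⊗[B] N)) = ⊤
  · rw [LocCoh.idealDepth, if_pos hN]
    exact le_top
  rw [GrothLib.Depth.le_idealDepth_iff_exists _ hN]
  have hmA : p.map (algebraMap A Bq) = (maximalIdeal Ap).map (algebraMap Ap Bq) := by
    rw [← Localization.AtPrime.map_eq_maximalIdeal (I := p), Ideal.map_map, ← IsScalarTower.algebraMap_eq]
  let I : Ideal Bq := p.map (algebraMap A Bq)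
  have hI : q.map (algebraMap B (EGA4.FibLocRing A B q)) =
      (maximalIdeal Bq).map (algebraMap Bq (EGA4.FibLocRing A B q)) := by
    rw [← Localization.AtPrime.map_eq_maximalIdeal, Ideal.map_map, ← IsScalarTower.algebraMap_eq]
  rw [hI, GrothLib.Depth.idealDepth_map_eq] at h
  have hF : maximalIdeal Bq • (⊤ : Submodule Bq (EGA4.FibLocMod A B q E)) ≠ ⊤ := by
    intro hF
    have hle : I ≤ maximalIdeal Bq := by
      show p.map (algebraMap A Bq) ≤ _
      rw [hmA, Ideal.map_le_iff_le_comap]
      exact fun a ha hu => ha (isUnit_of_map_unit (algebraMap Ap Bq) a hu)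
    have htop : maximalIdeal Bq • (⊤ : Submodule Bq N) = ⊤ := top_le_iff.1 fun x _ => by
      have h1 : (I • (⊤ : Submodule Bq N)).mkQ x ∈
          (maximalIdeal Bq • (⊤ : Submodule Bq N)).map (I • (⊤ : Submodule Bq N)).mkQ := by
        rw [Submodule.map_smul'', Submodule.map_top, Submodule.range_mkQ, hF]
        trivial
      obtain ⟨y, hy, hxy⟩ := h1
      have h2 : y - x ∈ I • (⊤ : Submodule Bq N) := (Submodule.Quotient.eq _).1 hxy
      have h3 := Submodule.sub_mem _ hy (Submodule.smul_mono_left hle h2)
      rwa [sub_sub_cancel] at h3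
    refine hN (top_le_iff.1 fun z _ => ?_)
    induction z using TensorProduct.induction_on with
    | zero => exact zero_mem _
    | add a b ha hb => exact add_mem (ha trivial) (hb trivial)
    | tmul t m =>
      have hm : m ∈ maximalIdeal Bq • (⊤ : Submodule Bq N) := by rw [htop]; trivial
      refine Submodule.smul_induction_on hm (fun a ha y _ => ?_) fun a b ha hb => ?_
      · rw [hψ, ← smul_eq_mul, ← TensorProduct.smul_tmul']
        exact Submodule.smul_mem_smul (fun hu => ha (isUnit_of_map_unit ψ a hu)) trivial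
      · rw [tmul_add]; exact add_mem ha hb
  obtain ⟨rs, hlen, hmem, hreg⟩ := (GrothLib.Depth.le_idealDepth_iff_exists _ hF n).1 h
  refine ⟨rs.map ψ, by rw [List.length_map, hlen], fun r hr => ?_, ?_⟩
  · obtain ⟨a, ha, rfl⟩ := List.mem_map.1 hr
    exact fun hu => hmem a ha (isUnit_of_map_unit ψ a hu)
  refine isWeaklyRegular_tensor_of_fibre (A := A) (A' := A') (B' := B') (R := Ap) X ψ rs N hψ ?_
  exact ((Submodule.quotEquivOfEq (I • (⊤ : Submodule Bq N))
    ((maximalIdeal Ap).map (algebraMap Ap Bq) • ⊤) (by rw [show I = _ from hmA])).isWeaklyRegular_congr rs).1 hreg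

include A A' in
theorem le_idealDepth_baseChange_of_fib (J : Ideal B) (n : ℕ)
    (h : ∀ q : PrimeSpectrum B, J ≤ q.asIdeal →
      (n : ℕ∞) ≤ LocCoh.idealDepth (q.asIdeal.map (algebraMap B (EGA4.FibLocRing A B q.asIdeal)))
        (EGA4.FibLocMod A B q.asIdeal E)) :
    (n : ℕ∞) ≤ LocCoh.idealDepth (J.map (algebraMap B B')) (B' ⊗[B] E) := by
  cases hd : LocCoh.idealDepth (J.map (algebraMap B B')) (B' ⊗[B] E) using ENat.recTopCoe with
  | top => exact le_top
  | coe d =>
    obtain ⟨q', hq', hle⟩ := GrothLib.Depth.exists_depth_localization_le _ d hd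
    exact (le_depth_baseChange (A := A) (A' := A') E q'.asIdeal _ rfl n
      (h ⟨q'.asIdeal.comap (algebraMap B B'), inferInstance⟩ (Ideal.map_le_iff_le_comap.1 hq'))).trans hle

end GrothLib.FlatOff
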