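import Mathlib
import Groth.Agent.Lib.FlatOff.BaseDepthMain

/-!
# Fibre depths along `J` after base change
-/

set_option autoImplicit false
universe u

open TensorProduct Function

namespace GrothLib.FlatOff

theorem range_lTensor_smul_top {R X N : Type u} [CommRing R] [CommRing X] [Algebra R X] [AddCommGroup N]
    [Module R N] (I : Ideal R) :
    LinearMap.range (AlgebraTensorModule.lTensor X X ((I • ⊤ : Submodule R N)).subtype) =
      I.map (algebraMap R X) • (⊤ : Submodule X (X ⊗[R] N)) := by
  refine le_antisymm ?_ (Submodule.smul_le.2 fun b hb z _ => ?_)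
  · rintro _ ⟨z, rfl⟩
    induction z using TensorProduct.induction_on with
    | zero => simp
    | add a b ha hb => rw [map_add]; exact add_mem ha hb
    | tmul t y =>
      rw [AlgebraTensorModule.lTensor_tmul, Submodule.subtype_apply]
      refine Submodule.smul_induction_on y.2 (fun a ha w _ => ?_) fun a b ha hb => ?_
      · rw [TensorProduct.tmul_smul, ← IsScalarTower.algebraMap_smul X a]
        exact Submodule.smul_mem_smul (Ideal.mem_map_of_mem _ ha) trivial
      · rw [tmul_add]; exact add_mem ha hb
  · refine (Submodule.span_induction (p := fun b _ => ∀ z : X ⊗[R] N, b • z ∈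
      LinearMap.range (AlgebraTensorModule.lTensor X X ((I • ⊤ : Submodule R N)).subtype)) ?_ ?_ ?_ ?_ hb) z
    · rintro _ ⟨a, ha, rfl⟩ z
      induction z using TensorProduct.induction_on with
      | zero => simp
      | add u v hu hv => rw [smul_add]; exact add_mem hu hv
      | tmul t y =>
        refine ⟨t ⊗ₜ[R] ⟨a • y, Submodule.smul_mem_smul ha trivial⟩, ?_⟩
        rw [AlgebraTensorModule.lTensor_tmul, Submodule.subtype_apply, TensorProduct.tmul_smul, algebraMap_smul]
    · intro z; rw [zero_smul]; exact zero_mem _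
    · intro a b _ _ ha hb z; rw [add_smul]; exact add_mem (ha z) (hb z)
    · intro c a _ ha z; rw [smul_eq_mul, mul_smul]; exact Submodule.smul_mem _ _ (ha z)

/-- depth along `I` of a tensor product with a flat algebra modulo an ideal -/
theorem le_idealDepth_tensor_quot {R X : Type u} [CommRing R] [CommRing X] [Algebra R X] [IsNoetherianRing R]
    [IsNoetherianRing X] [Module.Flat R X] {N : Type u} [AddCommGroup N] [Module R N] [Module.Finite R N]
    (J I : Ideal R) (n : ℕ∞) (h : n ≤ LocCoh.idealDepth J (N ⧸ (I • ⊤ : Submodule R N))) :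
    n ≤ LocCoh.idealDepth (J.map (algebraMap R X))
      ((X ⊗[R] N) ⧸ (I.map (algebraMap R X) • ⊤ : Submodule X (X ⊗[R] N))) := by
  let φ : X ⊗[R] N →ₗ[X] X ⊗[R] (N ⧸ (I • ⊤ : Submodule R N)) :=
    AlgebraTensorModule.lTensor X X (I • ⊤ : Submodule R N).mkQ
  have hs : Surjective φ := LinearMap.lTensor_surjective X (Submodule.mkQ_surjective _)
  have hker : LinearMap.ker φ = I.map (algebraMap R X) • (⊤ : Submodule X (X ⊗[R] N)) := by
    rw [← range_lTensor_smul_top]
    ext z
    exact lTensor_exact X (LinearMap.exact_subtype_mkQ _) (Submodule.mkQ_surjective _) z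
  refine (h.trans (GrothLib.Depth.idealDepth_le_baseChange (B := X) J _)).trans (le_of_eq ?_)
  exact (GrothLib.Depth.idealDepth_eq_of_equiv _
    ((Submodule.quotEquivOfEq _ _ hker.symm).trans (φ.quotKerEquivOfSurjective hs))).symm

/-- base change along a surjection is reduction modulo the kernel -/
theorem le_idealDepth_of_surjective {B R R'' : Type u} [CommRing B] [CommRing R] [CommRing R''] [Algebra B R]
    [Algebra B R''] [Algebra R R''] [IsScalarTower B R R''] [IsNoetherianRing R] [IsNoetherianRing R'']
    (E : Type u) [AddCommGroup E] [Module B E] [Module.Finite B E] (J I : Ideal R) (n : ℕ∞)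
    (hsurj : Surjective (algebraMap R R'')) (hle : ∀ k, algebraMap R R'' k = 0 → k ∈ I)
    (hge : ∀ b ∈ I, algebraMap R R'' b = 0)
    (h : n ≤ LocCoh.idealDepth (J.map (algebraMap R R'')) (R'' ⊗[B] E)) :
    n ≤ LocCoh.idealDepth J ((R ⊗[B] E) ⧸ (I • ⊤ : Submodule R (R ⊗[B] E))) := by
  let π : R →ₗ[B] R'' := (IsScalarTower.toAlgHom B R R'').toLinearMap
  let φ : R ⊗[B] E →ₗ[R] R'' ⊗[B] E :=
    AlgebraTensorModule.map (Algebra.linearMap R R'') (LinearMap.id : E →ₗ[B] E)
  have hφs : Surjective φ := by
    intro z
    induction z using TensorProduct.induction_on with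
    | zero => exact ⟨0, map_zero _⟩
    | add a b ha hb =>
      obtain ⟨a, rfl⟩ := ha
      obtain ⟨b, rfl⟩ := hb
      exact ⟨a + b, map_add _ _ _⟩
    | tmul t y =>
      obtain ⟨t, rfl⟩ := hsurj t
      exact ⟨t ⊗ₜ[B] y, rfl⟩
  have hφker : LinearMap.ker φ = I • (⊤ : Submodule R (R ⊗[B] E)) := by
    refine le_antisymm (fun z hz => ?_) (Submodule.smul_le.2 fun b hb z _ => ?_)
    · obtain ⟨w, rfl⟩ := (rTensor_exact E (LinearMap.exact_subtype_ker_map π)
        (show Surjective π from hsurj) z).1 hz
      clear hz
      induction w using TensorProduct.induction_on with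
      | zero => simp
      | add a b ha hb => rw [map_add]; exact add_mem ha hb
      | tmul k y =>
        rw [LinearMap.rTensor_tmul, Submodule.subtype_apply, show (k : R) ⊗ₜ[B] y = (k : R) • ((1 : R) ⊗ₜ[B] y) by
          rw [TensorProduct.smul_tmul', smul_eq_mul, mul_one]]
        exact Submodule.smul_mem_smul (hle _ k.2) trivial
    · rw [LinearMap.mem_ker, map_smul, ← IsScalarTower.algebraMap_smul R'' b, hge b hb, zero_smul]
  haveI : Module.Finite R (R'' ⊗[B] E) := Module.Finite.of_surjective φ hφs
  rw [GrothLib.Depth.idealDepth_map_eq] at h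
  exact h.trans (le_of_eq (GrothLib.Depth.idealDepth_eq_of_equiv _
    ((Submodule.quotEquivOfEq _ _ hφker.symm).trans (φ.quotKerEquivOfSurjective hφs))).symm)

variable {A B A' B' : Type u} [CommRing A] [CommRing B] [CommRing A'] [CommRing B'] [Algebra A B]
  [Algebra A A'] [Algebra B B'] [Algebra A' B'] [Algebra A B'] [IsScalarTower A B B'] [IsScalarTower A A' B']
  [Algebra.IsPushout A B A' B'] [IsNoetherianRing B] [IsNoetherianRing B']
  (E : Type u) [AddCommGroup E] [Module B E] [Module A E] [IsScalarTower A B E]
  [Module.Finite B E] [Module.Flat A E]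

attribute [local instance] Algebra.TensorProduct.rightAlgebra

include A A' in
theorem le_idealDepth_quot_baseChange (J : Ideal B) (n : ℕ)
    (h : ∀ q : PrimeSpectrum B, J ≤ q.asIdeal →
      (n : ℕ∞) ≤ LocCoh.idealDepth (q.asIdeal.map (algebraMap B (EGA4.FibLocRing A B q.asIdeal)))
        (EGA4.FibLocMod A B q.asIdeal E)) (p' : Ideal A') :
    (n : ℕ∞) ≤ LocCoh.idealDepth (J.map (algebraMap B B'))
      ((B' ⊗[B] E) ⧸ (p'.map (algebraMap A' B') • ⊤ : Submodule B' (B' ⊗[B] E))) := by
  let C := A' ⧸ p'
  let B'' := B' ⊗[A'] C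
  haveI : IsScalarTower B B' B'' := inferInstance
  haveI : IsScalarTower A B' B'' := inferInstance
  haveI : IsScalarTower A B B'' := IsScalarTower.of_algebraMap_eq fun a => by
    exact ((IsScalarTower.algebraMap_apply A B' B'' a).trans
      (congrArg (algebraMap B' B'') (IsScalarTower.algebraMap_apply A B B' a))).trans
      (IsScalarTower.algebraMap_apply B B' B'' _).symm
  haveI : IsScalarTower A A' B'' := IsScalarTower.of_algebraMap_eq fun a => by
    exact ((IsScalarTower.algebraMap_apply A B' B'' a).trans
      (congrArg (algebraMap B' B'') (IsScalarTower.algebraMap_apply A A' B' a))).trans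
      (IsScalarTower.algebraMap_apply A' B' B'' _).symm
  haveI : IsScalarTower A C B'' := IsScalarTower.of_algebraMap_eq fun a => by
    rw [IsScalarTower.algebraMap_apply A A' B'', IsScalarTower.algebraMap_apply A A' C,
      ← IsScalarTower.algebraMap_apply A' C B'']
  haveI : Algebra.IsPushout A' B' C B'' := inferInstance
  haveI : Algebra.IsPushout A A' B B' := Algebra.IsPushout.symm inferInstance
  haveI : Algebra.IsPushout A' C B' B'' := Algebra.IsPushout.symm inferInstance
  haveI : Algebra.IsPushout A C B B'' := Algebra.IsPushout.comp_iff (R := A) (S := A') (R' := B) (S' := B')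
    (T := C) (T' := B'') |>.2 inferInstance
  haveI : Algebra.IsPushout A B C B'' := Algebra.IsPushout.symm inferInstance
  let I := p'.map (algebraMap A' B')
  let π : B' →ₗ[B] B'' := (IsScalarTower.toAlgHom B B' B'').toLinearMap
  let e := Algebra.TensorProduct.quotIdealMapEquivTensorQuot B' p'
  have hsurj : Surjective (algebraMap B' B'') := fun z => by
    obtain ⟨w, rfl⟩ := e.surjective z
    obtain ⟨w, rfl⟩ := Ideal.Quotient.mk_surjective w
    exact ⟨w, (e.commutes w).symm⟩
  haveI : IsNoetherianRing B'' := isNoetherianRing_of_surjective B' B'' _ hsurj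
  have h' := le_idealDepth_baseChange_of_fib (A := A) (A' := C) (B' := B'') E J n h
  haveI : Module.Finite B'' (B'' ⊗[B] E) := inferInstance
  exact le_idealDepth_of_surjective (R := B') (R'' := B'') E (J.map (algebraMap B B')) (p'.map (algebraMap A' B')) n
    hsurj (fun k hk => by
      have h0 : e (Ideal.Quotient.mk _ k) = 0 := (e.commutes k).trans hk
      exact Ideal.Quotient.eq_zero_iff_mem.1 (e.injective (h0.trans (map_zero e).symm)))
    (fun b hb => by
      rw [← e.commutes b, show algebraMap B' (B' ⧸ _) b = 0 from Ideal.Quotient.eq_zero_iff_mem.2 hb, map_zero])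
    (by rwa [show (J.map (algebraMap B B')).map (algebraMap B' B'') = J.map (algebraMap B B'') by
      rw [Ideal.map_map, ← IsScalarTower.algebraMap_eq]])

include A A' in
/-- fibre stalks of a base change have depth along `J` at least `n` -/
theorem le_idealDepth_fib_baseChange (J : Ideal B) (n : ℕ)
    (h : ∀ q : PrimeSpectrum B, J ≤ q.asIdeal →
      (n : ℕ∞) ≤ LocCoh.idealDepth (q.asIdeal.map (algebraMap B (EGA4.FibLocRing A B q.asIdeal)))
        (EGA4.FibLocMod A B q.asIdeal E)) (q' : Ideal B') [q'.IsPrime] :
    (n : ℕ∞) ≤ LocCoh.idealDepth ((J.map (algebraMap B B')).map (algebraMap B' (Localization.AtPrime q')))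
      (EGA4.FibLocMod A' B' q' (B' ⊗[B] E)) := by
  let X := Localization.AtPrime q'
  let N := B' ⊗[B] E
  let p' := q'.comap (algebraMap A' B')
  haveI : IsNoetherianRing X := IsLocalization.isNoetherianRing q'.primeCompl _ inferInstance
  haveI : Module.Finite X (LocalizedModule q'.primeCompl N) :=
    Module.Finite.of_isLocalizedModule q'.primeCompl (LocalizedModule.mkLinearMap q'.primeCompl N)
  refine (le_idealDepth_tensor_quot (X := X) (J.map (algebraMap B B')) (p'.map (algebraMap A' B')) _
    (le_idealDepth_quot_baseChange (A := A) (A' := A') E J n h p')).trans (le_of_eq ?_)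
  refine GrothLib.Depth.idealDepth_eq_of_equiv _
    (Submodule.Quotient.equiv _ _ (LocalizedModule.equivTensorProduct q'.primeCompl N).symm ?_)
  rw [Submodule.map_smul'', Submodule.map_top, LinearEquiv.range, Ideal.map_map,
    ← IsScalarTower.algebraMap_eq]

end GrothLib.FlatOff
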