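import Groth.Agent.Lib.FlatOff.Infinitesimal

/-!
# The infinitesimal criterion over a Noetherian local base
-/

set_option autoImplicit false
set_option linter.style.haveILetI false
universe u

open Function IsLocalRing TensorProduct

namespace GrothLib.FlatOff

theorem isPushout_quot_map (R C : Type u) [CommRing R] [CommRing C] [Algebra R C] (I : Ideal R) :
    Algebra.IsPushout R C (R ⧸ I) (C ⧸ I.map (algebraMap R C)) := by
  letI : Algebra (R ⧸ I) (C ⊗[R] (R ⧸ I)) := Algebra.TensorProduct.rightAlgebra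
  refine Algebra.IsPushout.of_equiv (S' := C ⊗[R] (R ⧸ I))
    (Algebra.TensorProduct.quotIdealMapEquivTensorQuot C I).symm (RingHom.ext fun x => ?_)
  obtain ⟨a, rfl⟩ := Ideal.Quotient.mk_surjective x
  show (Algebra.TensorProduct.quotIdealMapEquivTensorQuot C I).symm ((1 : C) ⊗ₜ[R] Ideal.Quotient.mk I a) =
    Ideal.Quotient.mk _ (algebraMap R C a)
  apply (Algebra.TensorProduct.quotIdealMapEquivTensorQuot C I).injective
  rw [AlgEquiv.apply_symm_apply]
  show (1 : C) ⊗ₜ[R] Ideal.Quotient.mk I a = algebraMap R C a ⊗ₜ[R] (1 : R ⧸ I)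
  rw [Algebra.algebraMap_eq_smul_one, TensorProduct.smul_tmul, ← Ideal.Quotient.algebraMap_eq,
    Algebra.algebraMap_eq_smul_one]

theorem flat_quot_map (R C : Type u) [CommRing R] [CommRing C] [Algebra R C] [Module.Flat R C] (I : Ideal R) :
    Module.Flat (R ⧸ I) (C ⧸ I.map (algebraMap R C)) := by
  haveI := isPushout_quot_map R C I
  haveI : Algebra.IsPushout R (R ⧸ I) C (C ⧸ I.map (algebraMap R C)) := Algebra.IsPushout.symm inferInstance
  exact Module.Flat.isBaseChange R (R ⧸ I) C (C ⧸ I.map (algebraMap R C))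
    (Algebra.IsPushout.out (R := R) (S := R ⧸ I) (R' := C) (S' := C ⧸ I.map (algebraMap R C)))

theorem mem_smul_top_map_iff {R X P : Type u} [CommRing R] [CommRing X] [Algebra R X] [AddCommGroup P]
    [Module X P] [Module R P] [IsScalarTower R X P] (I : Ideal R) (z : P) :
    z ∈ I • (⊤ : Submodule R P) ↔ z ∈ I.map (algebraMap R X) • (⊤ : Submodule X P) := by
  refine ⟨fun h => ?_, fun h => ?_⟩
  · induction h using Submodule.smul_induction_on' with
    | smul r hr y _ =>
      rw [← algebraMap_smul X r y]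
      exact Submodule.smul_mem_smul (Ideal.mem_map_of_mem _ hr) Submodule.mem_top
    | add a _ b _ ha hb => exact add_mem ha hb
  · induction h using Submodule.smul_induction_on' with
    | smul c hc y _ =>
      have key : ∀ w : P, c • w ∈ I • (⊤ : Submodule R P) := by
        induction hc using Submodule.span_induction with
        | mem c hc =>
          obtain ⟨r, hr, rfl⟩ := hc
          intro w
          rw [algebraMap_smul]
          exact Submodule.smul_mem_smul hr Submodule.mem_top
        | zero => intro w; rw [zero_smul]; exact zero_mem _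
        | add a b _ _ ha hb => intro w; rw [add_smul]; exact add_mem (ha w) (hb w)
        | smul a b _ hb => intro w; rw [smul_eq_mul, mul_comm, mul_smul]; exact hb _
      exact key y
    | add a _ b _ ha hb => exact add_mem ha hb

theorem ringKrullDim_fib_eq {R A' C C' : Type u} [CommRing R] [CommRing A'] [CommRing C] [CommRing C']
    [Algebra R A'] [Algebra R C] [Algebra A' C'] [Algebra C C'] [Algebra R C'] [IsScalarTower R C C']
    [IsScalarTower R A' C'] (hA : Surjective (algebraMap R A')) (hC : Surjective (algebraMap C C'))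
    (r' : Ideal C') [r'.IsPrime]
    (hker : RingHom.ker (algebraMap C C') ≤ ((r'.comap (algebraMap C C')).comap (algebraMap R C)).map (algebraMap R C)) :
    ringKrullDim (EGA4.FibLocRing R C (r'.comap (algebraMap C C'))) = ringKrullDim (EGA4.FibLocRing A' C' r') := by
  obtain ⟨e, -⟩ := exists_fibLocRing_equiv hA hC _ r' rfl hker
  exact ringKrullDim_eq_of_ringEquiv e

theorem flatAt_coker_of_infinitesimal {R C : Type u} [CommRing R] [CommRing C] [IsNoetherianRing R] [IsLocalRing R]
    [IsNoetherianRing C] [Algebra R C] [Module.Flat R C] (n : PrimeSpectrum C)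
    (hn : (maximalIdeal R).map (algebraMap R C) ≤ n.asIdeal)
    (hS2 : LocCoh.HasSk 2 (EGA4.FibLocRing R C n.asIdeal) (EGA4.FibLocRing R C n.asIdeal))
    {F : Type u} [AddCommGroup F] [Module C F] [Module.Finite C F] (J : Ideal C)
    (hcodim : ∀ q : PrimeSpectrum C, J ≤ q.asIdeal → (2 : WithBot ℕ∞) ≤ ringKrullDim (EGA4.FibLocRing R C q.asIdeal))
    {N M : ℕ} (g : F →ₗ[C] (Fin N → C)) (h : (Fin N → C) →ₗ[C] (Fin M → C)) (hg : Injective g)
    (hgh : Function.Exact g h)
    (hGfree : ∀ q : PrimeSpectrum C, ¬ J ≤ q.asIdeal → Module.Free (Localization.AtPrime q.asIdeal)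
      (LocalizedModule q.asIdeal.primeCompl ((Fin M → C) ⧸ LinearMap.range h)))
    (hI : ∀ (A' : Type u) [CommRing A'] [IsArtinianRing A'] [IsLocalRing A'] [Algebra R A'],
      Function.Surjective (algebraMap R A') →
      ∀ (C' : Type u) [CommRing C'] [IsNoetherianRing C'] [Algebra C C'] [Algebra A' C'] [Algebra R C']
        [IsScalarTower R C C'] [IsScalarTower R A' C'], Algebra.IsPushout R C A' C' →
        ∀ q' : PrimeSpectrum C', q'.asIdeal.comap (algebraMap C C') = n.asIdeal →
          FlatCA.FlatAt A' q'.asIdeal (Module.Dual C' (Module.Dual C' (C' ⊗[C] F))) ∧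
          LocCoh.HasSk 2 (EGA4.FibLocRing A' C' q'.asIdeal)
            (EGA4.FibLocMod A' C' q'.asIdeal (Module.Dual C' (Module.Dual C' (C' ⊗[C] F))))) :
    FlatCA.FlatAt R n.asIdeal ((Fin M → C) ⧸ LinearMap.range h) := by
  classical
  let G := (Fin M → C) ⧸ LinearMap.range h
  let X := Localization.AtPrime n.asIdeal
  let G₀ := LocalizedModule n.asIdeal.primeCompl G
  haveI : IsNoetherianRing X := IsLocalization.isNoetherianRing n.asIdeal.primeCompl _ inferInstance
  haveI : Module.Finite X G₀ :=
    Module.Finite.of_isLocalizedModule n.asIdeal.primeCompl (LocalizedModule.mkLinearMap n.asIdeal.primeCompl G)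
  haveI : IsScalarTower R X G₀ := IsScalarTower.of_algebraMap_smul fun r x => by
    rw [IsScalarTower.algebraMap_apply R C X, algebraMap_smul, algebraMap_smul]
  have hmn : n.asIdeal.comap (algebraMap R C) = maximalIdeal R :=
    ((maximalIdeal.isMaximal R).eq_of_le (Ideal.IsPrime.ne_top inferInstance) (Ideal.map_le_iff_le_comap.1 hn)).symm
  have hmX : (maximalIdeal R).map (algebraMap R X) ≤ Ideal.jacobson ⊥ := by
    rw [jacobson_eq_maximalIdeal ⊥ bot_ne_top, IsScalarTower.algebraMap_eq R C X, ← Ideal.map_map,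
      Ideal.map_le_iff_le_comap]
    exact hn.trans (IsLocalization.AtPrime.comap_maximalIdeal X n.asIdeal).ge
  refine GrothLib.Flatness.flat_of_forall_pow (S := X) (maximalIdeal R) hmX fun j L L' _ _ _ _ f hL hL' hf => ?_
  let I : Ideal R := maximalIdeal R ^ (j + 1)
  let A' := R ⧸ I
  let C' := C ⧸ I.map (algebraMap R C)
  haveI : IsArtinianRing A' := isArtinianRing_quotient_pow j
  have hIne : I ≠ ⊤ := fun h => (maximalIdeal.isMaximal R).ne_top
    (top_le_iff.1 (h.ge.trans (Ideal.pow_le_self (Nat.succ_ne_zero j))))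
  haveI : Nontrivial A' := Ideal.Quotient.nontrivial_iff.2 hIne
  haveI : IsLocalRing A' := IsLocalRing.of_surjective' (Ideal.Quotient.mk I) Ideal.Quotient.mk_surjective
  haveI := flat_quot_map R C I
  have hsA : Surjective (algebraMap R A') := Ideal.Quotient.mk_surjective
  have hsC : Surjective (algebraMap C C') := Ideal.Quotient.mk_surjective
  let q' : Ideal C' := n.asIdeal.map (algebraMap C C')
  have hle : I.map (algebraMap R C) ≤ n.asIdeal :=
    (Ideal.map_mono (Ideal.pow_le_self (Nat.succ_ne_zero j))).trans hn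
  haveI hq'p : q'.IsPrime := Ideal.map_isPrime_of_surjective hsC
    (by rw [Ideal.Quotient.algebraMap_eq, Ideal.mk_ker]; exact hle)
  have hq' : q'.comap (algebraMap C C') = n.asIdeal := by
    rw [Ideal.comap_map_of_surjective _ hsC, ← RingHom.ker_eq_comap_bot, Ideal.Quotient.algebraMap_eq,
      Ideal.mk_ker, sup_eq_left]
    exact hle
  have hker : ∀ (r : Ideal C) [r.IsPrime], I.map (algebraMap R C) ≤ r →
      RingHom.ker (algebraMap C C') ≤ (r.comap (algebraMap R C)).map (algebraMap R C) := fun r _ hr => by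
    rw [Ideal.Quotient.algebraMap_eq, Ideal.mk_ker]
    exact Ideal.map_mono (Ideal.map_le_iff_le_comap.1 hr)
  obtain ⟨eD, -⟩ := exists_fibLocRing_equiv hsA hsC n.asIdeal q' hq' (hker _ hle)
  haveI : IsNoetherianRing (EGA4.FibLocRing R C n.asIdeal) := inferInstance
  have hS2' := hasSk_congr eD hS2
  let J' : Ideal C' := J.map (algebraMap C C')
  have hcodim' : ∀ r : PrimeSpectrum C', J' ≤ r.asIdeal →
      (2 : WithBot ℕ∞) ≤ ringKrullDim (EGA4.FibLocRing A' C' r.asIdeal) := fun r hr => by
    rw [← ringKrullDim_fib_eq hsA hsC r.asIdeal (hker _ (fun x hx => by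
      show algebraMap C C' x ∈ r.asIdeal
      rw [Ideal.Quotient.algebraMap_eq, Ideal.Quotient.eq_zero_iff_mem.2 hx]
      exact zero_mem _))]
    exact hcodim ⟨r.asIdeal.comap (algebraMap C C'), Ideal.comap_isPrime _ _⟩ (Ideal.map_le_iff_le_comap.1 hr)
  let ρ : ∀ k : ℕ, C' ⊗[C] (Fin k → C) ≃ₗ[C'] (Fin k → C') := fun k => TensorProduct.piScalarRight C C' C' (Fin k)
  let g' : C' ⊗[C] F →ₗ[C'] (Fin N → C') := (ρ N).toLinearMap.comp (g.baseChange C')
  let h' : (Fin N → C') →ₗ[C'] (Fin M → C') :=
    ((ρ M).toLinearMap.comp (h.baseChange C')).comp (ρ N).symm.toLinearMap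
  have hgh' : ∀ x, h' (g' x) = 0 := fun x => by
    show ρ M (h.baseChange C' ((ρ N).symm (ρ N (g.baseChange C' x)))) = 0
    rw [LinearEquiv.symm_apply_apply, ← LinearMap.comp_apply, ← LinearMap.baseChange_comp,
      hgh.linearMap_comp_eq_zero, LinearMap.baseChange_zero, LinearMap.zero_apply, map_zero]
  have hhom : ∀ a' ∈ J', ∃ (k : ℕ) (t : (Fin N → C') →ₗ[C'] C' ⊗[C] F)
      (s : (Fin M → C') →ₗ[C'] (Fin N → C')),
      (∀ x, t (g' x) = a' ^ k • x) ∧ ∀ y, g' (t y) + s (h' y) = a' ^ k • y := by
    intro a' ha'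
    obtain ⟨a, ha, rfl⟩ := (Ideal.mem_map_iff_of_surjective _ hsC).1 ha'
    obtain ⟨k, t, s, htg, hgt⟩ := exists_homotopy g h hg hgh a fun q hq => hGfree q fun hJ => hq (hJ ha)
    refine ⟨k, (t.baseChange C').comp (ρ N).symm.toLinearMap,
      ((ρ N).toLinearMap.comp (s.baseChange C')).comp (ρ M).symm.toLinearMap, fun x => ?_, fun y => ?_⟩
    · show t.baseChange C' ((ρ N).symm (ρ N (g.baseChange C' x))) = _
      rw [LinearEquiv.symm_apply_apply, ← LinearMap.comp_apply, ← LinearMap.baseChange_comp,
        show t.comp g = a ^ k • LinearMap.id from LinearMap.ext htg, LinearMap.baseChange_smul,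
        LinearMap.baseChange_id, LinearMap.smul_apply, LinearMap.id_apply, ← map_pow, algebraMap_smul]
    · show ρ N (g.baseChange C' (t.baseChange C' ((ρ N).symm y))) +
        ρ N (s.baseChange C' ((ρ M).symm (ρ M (h.baseChange C' ((ρ N).symm y))))) = _
      rw [LinearEquiv.symm_apply_apply, ← map_add, ← LinearMap.comp_apply (g.baseChange C'),
        ← LinearMap.comp_apply (s.baseChange C'), ← LinearMap.baseChange_comp, ← LinearMap.baseChange_comp,
        ← LinearMap.add_apply, ← LinearMap.baseChange_add,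
        show g.comp t + s.comp h = a ^ k • LinearMap.id from LinearMap.ext hgt, LinearMap.baseChange_smul,
        LinearMap.baseChange_id, LinearMap.smul_apply, LinearMap.id_apply, ← map_pow,
        ← algebraMap_smul C' (a ^ k) ((ρ N).symm y), map_smul, LinearEquiv.apply_symm_apply]
  let red : ∀ k : ℕ, (Fin k → C) →ₗ[C] (Fin k → C') := fun k => (Algebra.linearMap C C').compLeft (Fin k)
  have hρ : ∀ (k : ℕ) (y : Fin k → C), ρ k ((1 : C') ⊗ₜ[C] y) = red k y := fun k y => by
    funext i
    show y i • (1 : C') = algebraMap C C' (y i)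
    rw [Algebra.algebraMap_eq_smul_one]
  have hred : ∀ k, Surjective (red k) := fun k v => by
    choose w hw using fun i => hsC (v i)
    exact ⟨w, funext hw⟩
  have hcomm : ∀ y, h' (red N y) = red M (h y) := fun y => by
    rw [← hρ, ← hρ]
    show ρ M (h.baseChange C' ((ρ N).symm (ρ N ((1 : C') ⊗ₜ[C] y)))) = _
    rw [LinearEquiv.symm_apply_apply, LinearMap.baseChange_tmul]
  let G' := (Fin M → C') ⧸ LinearMap.range h'
  let π : G →ₗ[C] G' := (LinearMap.range h).liftQ (((LinearMap.range h').mkQ.restrictScalars C).comp (red M)) (by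
    rintro _ ⟨y, rfl⟩
    exact (Submodule.Quotient.mk_eq_zero _).2 ⟨red N y, hcomm y⟩)
  have hπ : Surjective π := fun z => by
    obtain ⟨v, rfl⟩ := Submodule.Quotient.mk_surjective _ z
    obtain ⟨w, rfl⟩ := hred M v
    exact ⟨Submodule.Quotient.mk w, rfl⟩
  have hredker : ∀ v, red M v = 0 → v ∈ I.map (algebraMap R C) • (⊤ : Submodule C (Fin M → C)) := fun v hv => by
    rw [show v = ∑ i, v i • (Pi.single i (1 : C) : Fin M → C) by funext j; simp [Finset.sum_apply, Pi.single_apply]]
    exact Submodule.sum_mem _ fun i _ =>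
      Submodule.smul_mem_smul (Ideal.Quotient.eq_zero_iff_mem.1 (congrFun hv i)) Submodule.mem_top
  have hπker : LinearMap.ker π = I.map (algebraMap R C) • (⊤ : Submodule C G) := by
    refine le_antisymm (fun z hz => ?_) (Submodule.smul_le.2 fun r hr z _ => ?_)
    · obtain ⟨v, rfl⟩ := Submodule.Quotient.mk_surjective _ z
      obtain ⟨w, hw⟩ := (Submodule.Quotient.mk_eq_zero _).1 (LinearMap.mem_ker.1 hz)
      obtain ⟨y, rfl⟩ := hred N w
      have h0 : red M (v - h y) = 0 := by
        rw [map_sub, ← hcomm, hw]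
        exact sub_self _
      have := Submodule.mem_map_of_mem (f := (LinearMap.range h).mkQ) (hredker _ h0)
      rw [Submodule.map_smul''] at this
      refine Submodule.smul_mono (N := (⊤ : Submodule C (Fin M → C)).map (LinearMap.range h).mkQ) le_rfl le_top ?_
      rwa [map_sub, Submodule.mkQ_apply, Submodule.mkQ_apply,
        show (Submodule.Quotient.mk (h y) : G) = 0 from (Submodule.Quotient.mk_eq_zero (LinearMap.range h)).2
          (LinearMap.mem_range_self h y), sub_zero] at this
    · rw [LinearMap.mem_ker, map_smul, ← algebraMap_smul C', Ideal.Quotient.algebraMap_eq,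
        Ideal.Quotient.eq_zero_iff_mem.2 hr, zero_smul]
  have hG' : ∀ r : PrimeSpectrum C', ¬ J' ≤ r.asIdeal → ∃ (k : ℕ) (α : G' →ₗ[C'] (Fin k → C'))
      (β : (Fin k → C') →ₗ[C'] G') (s : r.asIdeal.primeCompl), ∀ x, β (α x) = (s : C') • x := by
    intro r hr
    haveI := hGfree ⟨r.asIdeal.comap (algebraMap C C'), inferInstance⟩ fun hJ => hr (Ideal.map_le_iff_le_comap.2 hJ)
    obtain ⟨k, α, β, s, hs⟩ := GrothLib.FreeOff.exists_factor_of_free (B := C) G (r.asIdeal.comap (algebraMap C C'))
    obtain ⟨α₁, β₁, h₁⟩ := exists_factor_quot (I.map (algebraMap R C)) α β s hs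
    let e : (G ⧸ (I.map (algebraMap R C) • ⊤ : Submodule C G)) ≃ₗ[C] G' :=
      (Submodule.quotEquivOfEq _ _ hπker.symm).trans (π.quotKerEquivOfSurjective hπ)
    let e' : (G ⧸ (I.map (algebraMap R C) • ⊤ : Submodule C G)) →ₗ[C'] G' :=
      LinearMap.extendScalarsOfSurjective hsC e.toLinearMap
    let e'' : G' →ₗ[C'] (G ⧸ (I.map (algebraMap R C) • ⊤ : Submodule C G)) :=
      LinearMap.extendScalarsOfSurjective hsC e.symm.toLinearMap
    refine ⟨k, α₁.comp e'', e'.comp β₁, ⟨algebraMap C C' s, s.2⟩, fun z => ?_⟩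
    show e' (β₁ (α₁ (e'' z))) = _
    rw [h₁, map_smul]
    show _ • e (e.symm z) = _
    rw [e.apply_symm_apply]
    rfl
  have hflat : FlatCA.FlatAt A' q' G' :=
    flatAt_coker_of_hasSk J' q' g' h' hS2' hcodim' hgh' hhom hG'
      (hI A' hsA C' (isPushout_quot_map R C I) ⟨q', hq'p⟩ hq')
  let G₀' := LocalizedModule q'.primeCompl G'
  let φ : X →+* Localization.AtPrime q' := Localization.localRingHom n.asIdeal q' (algebraMap C C') hq'.symm
  letI : Algebra X (Localization.AtPrime q') := φ.toAlgebra
  haveI : IsScalarTower C X (Localization.AtPrime q') := IsScalarTower.of_algebraMap_eq fun c => by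
    rw [IsScalarTower.algebraMap_apply C C' (Localization.AtPrime q'), RingHom.algebraMap_toAlgebra,
      Localization.localRingHom_to_map]
  letI : Module X G₀' := Module.compHom _ φ
  haveI : IsScalarTower X (Localization.AtPrime q') G₀' := IsScalarTower.of_algebraMap_smul fun x z => rfl
  obtain ⟨e, he⟩ := exists_localized_quot_equiv n.asIdeal q' hq' hsC (I.map (algebraMap R C)) π hπ hπker
  haveI : IsScalarTower R X G₀' := IsScalarTower.of_algebraMap_smul fun r z => by
    rw [← algebraMap_smul (Localization.AtPrime q') (algebraMap R X r) z,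
      ← algebraMap_smul (Localization.AtPrime q') r z]
    congr 1
    show φ (algebraMap R X r) = _
    rw [IsScalarTower.algebraMap_apply R C X, Localization.localRingHom_to_map,
      IsScalarTower.algebraMap_apply R C' (Localization.AtPrime q'), IsScalarTower.algebraMap_apply R C C']
  haveI : Module.Flat A' G₀' := hflat
  haveI : IsScalarTower R A' G₀' := IsScalarTower.of_algebraMap_smul fun r z => by
    rw [← algebraMap_smul C' (algebraMap R A' r) z, ← algebraMap_smul C' r z,
      ← IsScalarTower.algebraMap_apply R A' C']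
  let K₀ : Submodule X G₀ := (I.map (algebraMap R C)).map (algebraMap C X) • ⊤
  let qmap : G₀ →ₗ[R] G₀' := (e.toLinearMap.comp K₀.mkQ).restrictScalars R
  have hq : Surjective qmap := e.surjective.comp (Submodule.mkQ_surjective _)
  have hqker : LinearMap.ker qmap ≤ I • (⊤ : Submodule R G₀) := fun z hz => by
    have hz' : z ∈ K₀ := by
      have := e.map_eq_zero_iff.1 (LinearMap.mem_ker.1 hz)
      exact (Submodule.Quotient.mk_eq_zero _).1 this
    clear hz
    have hK : K₀ = I.map (algebraMap R X) • (⊤ : Submodule X G₀) := by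
      rw [IsScalarTower.algebraMap_eq R C X, ← Ideal.map_map]
    rw [hK] at hz'
    exact (mem_smul_top_map_iff (X := X) I z).2 hz'
  have hkill : ∀ (P : Type u) [AddCommGroup P] [Module R P],
      Module.IsTorsionBySet R P (maximalIdeal R ^ j : Ideal R) → Module.IsTorsionBySet R P (I : Ideal R) :=
    fun P _ _ hP x a => hP (x := x) (a := ⟨a.1, Ideal.pow_le_pow_right (Nat.le_succ j) a.2⟩)
  letI : Module A' L := (hkill L hL).module
  letI : Module A' L' := (hkill L' hL').module
  haveI : IsScalarTower R A' L := (hkill L hL).isScalarTower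
  haveI : IsScalarTower R A' L' := (hkill L' hL').isScalarTower
  have hc : ∀ (P : Type u) [AddCommGroup P] [Module R P] [Module A' P] [IsScalarTower R A' P],
      TensorProduct.CompatibleSMul R A' G₀' P := fun P _ _ _ _ => ⟨fun a x y => by
    obtain ⟨r, rfl⟩ := hsA a
    rw [algebraMap_smul, algebraMap_smul, TensorProduct.smul_tmul]⟩
  haveI := hc L
  haveI := hc L'
  let f' : L →ₗ[A'] L' := LinearMap.extendScalarsOfSurjective hsA f
  let ψ : G₀' ⊗[A'] L ≃ₗ[R] G₀' ⊗[R] L := TensorProduct.equivOfCompatibleSMul R A' R G₀' L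
  let ψ' : G₀' ⊗[A'] L' ≃ₗ[R] G₀' ⊗[R] L' := TensorProduct.equivOfCompatibleSMul R A' R G₀' L'
  have hinjA : Injective (f'.lTensor G₀') := Module.Flat.lTensor_preserves_injective_linearMap f' hf
  have hcommψ : ∀ w, f.lTensor G₀' (ψ w) = ψ' (f'.lTensor G₀' w) := fun w => by
    induction w using TensorProduct.induction_on with
    | zero => simp
    | add a b ha hb => simp only [map_add, ha, hb]
    | tmul a b => rfl
  have hinjR : Injective (f.lTensor G₀') := fun x y hxy => by
    obtain ⟨x, rfl⟩ := ψ.surjective x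
    obtain ⟨y, rfl⟩ := ψ.surjective y
    rw [hcommψ, hcommψ] at hxy
    rw [hinjA (ψ'.injective hxy)]
  have hcomm' : ∀ w, f.lTensor G₀' (qmap.rTensor L w) = qmap.rTensor L' (f.lTensor G₀ w) := fun w => by
    induction w using TensorProduct.induction_on with
    | zero => simp
    | add a b ha hb => simp only [map_add, ha, hb]
    | tmul a b => rfl
  intro x y hxy
  refine rTensor_injective_of_kill I qmap hq hqker (fun r hr l => ?_) (hinjR ?_)
  · exact hkill L hL (x := l) (a := ⟨r, hr⟩)
  · rw [hcomm', hcomm', hxy]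

end GrothLib.FlatOff
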