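import Mathlib
import Groth.Prelude.Def_FlatCA
import Groth.Prelude.Def_EGA4b
import Groth.Agent.Lib.Flatness.Criterion
import Groth.Agent.Lib.Depth.Basic

/-!
# Flatness from flatness off `V(J)` and `J`-depth of the closed fibre
-/

set_option autoImplicit false
universe u

open TensorProduct Function IsLocalRing

namespace GrothLib.FlatOff

variable {A B : Type u} [CommRing A] [CommRing B] [Algebra A B]

/-- no non-zero element is killed by powers of all elements of `J` -/
def TF (J : Ideal B) (N : Type u) [AddCommGroup N] [Module B N] : Prop :=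
  ∀ z : N, (∀ x ∈ J, ∃ n : ℕ, x ^ n • z = 0) → z = 0

theorem TF.of_injective {J : Ideal B} {N N' : Type u} [AddCommGroup N] [Module B N] [AddCommGroup N']
    [Module B N'] (g : N →ₗ[B] N') (hg : Injective g) (h : TF J N') : TF J N := fun z hz =>
  hg ((h (g z) fun x hx => by
    obtain ⟨n, hn⟩ := hz x hx
    exact ⟨n, by rw [← map_smul, hn, map_zero]⟩).trans (map_zero g).symm)

theorem tf_of_idealDepth {J : Ideal B} {N : Type u} [AddCommGroup N] [Module B N] [Module.Finite B N]
    (h : 1 ≤ LocCoh.idealDepth J N) : TF J N := by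
  intro z hz
  by_cases hJ : J • (⊤ : Submodule B N) = ⊤
  · obtain ⟨r, hr1, hr2⟩ := Submodule.exists_sub_one_mem_and_smul_eq_zero_of_fg_of_le_smul J
      (⊤ : Submodule B N) Module.Finite.fg_top hJ.ge
    obtain ⟨n, hn⟩ := hz (1 - r) (by rw [← neg_sub]; exact J.neg_mem hr1)
    have hfix : ∀ m : ℕ, (1 - r) ^ m • z = z := fun m => by
      induction m with
      | zero => rw [pow_zero, one_smul]
      | succ m ih =>
        rw [pow_succ, mul_smul, sub_smul, one_smul, hr2 z trivial, sub_zero, ih]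
    rwa [hfix n] at hn
  · obtain ⟨rs, hlen, hmem, hreg⟩ := (GrothLib.Depth.le_idealDepth_iff_exists J hJ 1).1 (by exact_mod_cast h)
    obtain ⟨x, rfl⟩ := List.length_eq_one_iff.1 hlen
    obtain ⟨n, hn⟩ := hz x (hmem x (List.mem_singleton_self x))
    exact ((RingTheory.Sequence.isWeaklyRegular_cons_iff N x []).1 hreg).1.pow n
      (show x ^ n • z = x ^ n • 0 by rw [hn, smul_zero])

variable [IsLocalRing A] {M : Type u} [AddCommGroup M] [Module B M] [Module A M] [IsScalarTower A B M]
variable (J : Ideal B)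

/-- kernels of tensored injections are torsion -/
theorem ker_torsion (hU : ∀ q : PrimeSpectrum B, ¬ J ≤ q.asIdeal → FlatCA.FlatAt A q.asIdeal M)
    {L L' : Type u} [AddCommGroup L] [Module A L] [AddCommGroup L'] [Module A L'] (f : L →ₗ[A] L')
    (hf : Injective f) (z : M ⊗[A] L) (hz : f.lTensor M z = 0) (x : B) (hx : x ∈ J) :
    ∃ n : ℕ, x ^ n • z = 0 := by
  suffices h : x ∈ (Submodule.span B {z}).annihilator.radical by
    obtain ⟨n, hn⟩ := h
    exact ⟨n, (Submodule.mem_annihilator_span_singleton z _).1 hn⟩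
  rw [Ideal.radical_eq_sInf, Submodule.mem_sInf]
  rintro q ⟨hle, hq⟩
  by_contra hxq
  haveI := hq
  have hflat : Module.Flat A (LocalizedModule (Ideal.primeCompl q) M) :=
    hU ⟨q, hq⟩ fun h => hxq (h hx)
  let ℓ := LocalizedModule.mkLinearMap (Ideal.primeCompl q) M
  let ℓL : M ⊗[A] L →ₗ[B] LocalizedModule (Ideal.primeCompl q) M ⊗[A] L := AlgebraTensorModule.rTensor A L ℓ
  have h0 : ℓL z = 0 := by
    have hinj := Module.Flat.lTensor_preserves_injective_linearMap (M := LocalizedModule (Ideal.primeCompl q) M) f hf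
    refine hinj ?_
    rw [map_zero]
    have key : ∀ w : M ⊗[A] L, f.lTensor (LocalizedModule (Ideal.primeCompl q) M) (ℓL w) =
        AlgebraTensorModule.rTensor A L' ℓ (f.lTensor M w) := fun w => by
      induction w using TensorProduct.induction_on with
      | zero => simp
      | add a b ha hb => simp only [map_add, ha, hb]
      | tmul a b => simp [ℓL]
    rw [key, hz, map_zero]
  obtain ⟨s, hs⟩ := (IsLocalizedModule.eq_zero_iff (Ideal.primeCompl q) ℓL).1 h0
  exact s.2 (hle ((Submodule.mem_annihilator_span_singleton z _).2 hs))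

theorem tf_finsupp {N : Type u} [AddCommGroup N] [Module B N] {ι : Type u} (h : TF J N) : TF J (ι →₀ N) :=
  fun z hz => Finsupp.ext fun i => h (z i) fun x hx => by
    obtain ⟨n, hn⟩ := hz x hx
    exact ⟨n, by rw [← Finsupp.smul_apply, hn, Finsupp.zero_apply]⟩

/-- `M ⊗ A/m → M/mM` -/
theorem exists_toFib : ∃ φ : M ⊗[A] (A ⧸ maximalIdeal A) →ₗ[B] EGA4.FibMod A B M, Injective φ := by
  have hk : ∀ (v : EGA4.FibMod A B M), maximalIdeal A ≤ LinearMap.ker (LinearMap.toSpanSingleton A _ v) := by
    intro v a ha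
    obtain ⟨v, rfl⟩ := Submodule.Quotient.mk_surjective _ v
    rw [LinearMap.mem_ker, LinearMap.toSpanSingleton_apply, ← IsScalarTower.algebraMap_smul B a,
      ← Submodule.Quotient.mk_smul, Submodule.Quotient.mk_eq_zero]
    exact Submodule.smul_mem_smul (Ideal.mem_map_of_mem _ ha) trivial
  let bil : M →ₗ[B] (A ⧸ maximalIdeal A) →ₗ[A] EGA4.FibMod A B M :=
    { toFun := fun m => (maximalIdeal A).liftQ _ (hk (Submodule.Quotient.mk m))
      map_add' := fun a b => by
        refine Submodule.linearMap_qext _ (LinearMap.ext_ring ?_)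
        show (1 : A) • (Submodule.Quotient.mk (a + b) : EGA4.FibMod A B M) =
          (1 : A) • Submodule.Quotient.mk a + (1 : A) • Submodule.Quotient.mk b
        simp
      map_smul' := fun b m => by
        refine Submodule.linearMap_qext _ (LinearMap.ext_ring ?_)
        show (1 : A) • (Submodule.Quotient.mk (b • m) : EGA4.FibMod A B M) =
          b • (1 : A) • Submodule.Quotient.mk m
        simp }
  refine ⟨AlgebraTensorModule.lift bil, ?_⟩
  have hsurj : ∀ z : M ⊗[A] (A ⧸ maximalIdeal A), ∃ m : M, z = m ⊗ₜ[A] (Submodule.Quotient.mk 1) := by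
    intro z
    induction z using TensorProduct.induction_on with
    | zero => exact ⟨0, (zero_tmul _ _).symm⟩
    | add a b ha hb =>
      obtain ⟨m, rfl⟩ := ha
      obtain ⟨m', rfl⟩ := hb
      exact ⟨m + m', (add_tmul _ _ _).symm⟩
    | tmul m a =>
      obtain ⟨a, rfl⟩ := Submodule.Quotient.mk_surjective _ a
      refine ⟨a • m, ?_⟩
      rw [smul_tmul, ← Submodule.Quotient.mk_smul, smul_eq_mul, mul_one]
  rw [injective_iff_map_eq_zero]
  intro z hz
  obtain ⟨m, rfl⟩ := hsurj z
  have hm : m ∈ EGA4.mB A B • (⊤ : Submodule B M) := by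
    have : (Submodule.Quotient.mk m : EGA4.FibMod A B M) = 0 := by
      change (1 : A) • (Submodule.Quotient.mk m : EGA4.FibMod A B M) = 0 at hz
      rwa [one_smul] at hz
    exact (Submodule.Quotient.mk_eq_zero _).1 this
  refine Submodule.smul_induction_on hm ?_ fun a b ha hb => by rw [add_tmul, ha, hb, add_zero]
  intro b hb y _
  refine (Submodule.span_induction (p := fun b _ => ∀ y : M, (b • y) ⊗ₜ[A]
    (Submodule.Quotient.mk 1 : A ⧸ maximalIdeal A) = 0) ?_ ?_ ?_ ?_ hb) y
  · rintro _ ⟨a, ha, rfl⟩ y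
    rw [algebraMap_smul, smul_tmul, ← Submodule.Quotient.mk_smul, smul_eq_mul, mul_one,
      (Submodule.Quotient.mk_eq_zero _).2 ha, tmul_zero]
  · intro y; rw [zero_smul, zero_tmul]
  · intro a b _ _ ha hb y; rw [add_smul, add_tmul, ha, hb, add_zero]
  · intro c a _ ha y
    rw [smul_eq_mul, mul_smul, ← smul_tmul', ha, smul_zero]

/-- tensor products with modules killed by `m` -/
theorem tf_tensor_of_maximalIdeal (h1 : TF J (EGA4.FibMod A B M)) (L : Type u) [AddCommGroup L]
    [Module A L] (hL : Module.IsTorsionBySet A L (maximalIdeal A)) : TF J (M ⊗[A] L) := by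
  letI := hL.module
  haveI : IsScalarTower A (A ⧸ maximalIdeal A) L := hL.isScalarTower
  letI := Ideal.Quotient.field (maximalIdeal A)
  let bas := Module.Free.chooseBasis (A ⧸ maximalIdeal A) L
  let ι := Module.Free.ChooseBasisIndex (A ⧸ maximalIdeal A) L
  let e : L ≃ₗ[A] (ι →₀ A ⧸ maximalIdeal A) := bas.repr.restrictScalars A
  classical
  let e' : M ⊗[A] L ≃ₗ[B] (ι →₀ M ⊗[A] (A ⧸ maximalIdeal A)) :=
    (AlgebraTensorModule.congr (LinearEquiv.refl B M) e).trans
      (TensorProduct.finsuppRight A B M (A ⧸ maximalIdeal A) ι)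
  obtain ⟨φ, hφ⟩ := exists_toFib (A := A) (B := B) (M := M)
  exact TF.of_injective e'.toLinearMap e'.injective (tf_finsupp J (TF.of_injective φ hφ h1))

/-- tensor products with modules killed by a power of `m` -/
theorem tf_tensor (hU : ∀ q : PrimeSpectrum B, ¬ J ≤ q.asIdeal → FlatCA.FlatAt A q.asIdeal M)
    (h1 : TF J (EGA4.FibMod A B M)) (n : ℕ) : ∀ (L : Type u) [AddCommGroup L] [Module A L],
    Module.IsTorsionBySet A L (maximalIdeal A ^ n : Ideal A) → TF J (M ⊗[A] L) := by
  induction n with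
  | zero =>
    intro L _ _ hL
    refine tf_tensor_of_maximalIdeal J h1 L fun v a => ?_
    have : v = 0 := by simpa using @hL v ⟨1, by simp⟩
    simp [this]
  | succ n ih =>
    intro L _ _ hL z hz
    let L₁ : Submodule A L := maximalIdeal A • ⊤
    have hL₁ : Module.IsTorsionBySet A L₁ (maximalIdeal A ^ n : Ideal A) := by
      rintro ⟨v, hv⟩ a
      refine Subtype.ext ?_
      show (a : A) • v = 0
      refine Submodule.smul_induction_on hv ?_ fun a b ha hb => by rw [smul_add, ha, hb, add_zero]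
      intro b hb y _
      rw [smul_smul]
      exact @hL y ⟨a * b, by rw [pow_succ]; exact Ideal.mul_mem_mul a.2 hb⟩
    have hL₂ : Module.IsTorsionBySet A (L ⧸ L₁) (maximalIdeal A) := by
      intro v a
      obtain ⟨y, rfl⟩ := L₁.mkQ_surjective v
      rw [← map_smul]
      exact (Submodule.Quotient.mk_eq_zero _).2 (Submodule.smul_mem_smul a.2 trivial)
    let g : M ⊗[A] L →ₗ[B] M ⊗[A] (L ⧸ L₁) := AlgebraTensorModule.lTensor B M L₁.mkQ
    have hg : g z = 0 := tf_tensor_of_maximalIdeal J h1 _ hL₂ (g z) fun x hx => by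
      obtain ⟨k, hk⟩ := hz x hx
      exact ⟨k, by rw [← map_smul, hk, map_zero]⟩
    obtain ⟨w, rfl⟩ := (lTensor_exact M (LinearMap.exact_subtype_mkQ L₁) L₁.mkQ_surjective z).1 hg
    rw [ih L₁ hL₁ w fun x hx => ?_, map_zero]
    obtain ⟨k, hk⟩ := hz x hx
    have hk' : (L₁.subtype).lTensor M (x ^ k • w) = 0 :=
      ((AlgebraTensorModule.lTensor B M L₁.subtype).map_smul (x ^ k) w).trans hk
    obtain ⟨l, hl⟩ := ker_torsion J hU L₁.subtype L₁.injective_subtype (x ^ k • w) hk' x hx
    exact ⟨l + k, by rw [pow_add, mul_smul, hl]⟩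

theorem flat [IsNoetherianRing A] [IsNoetherianRing B] [IsLocalRing B] [IsLocalHom (algebraMap A B)]
    [Module.Finite B M] (hU : ∀ q : PrimeSpectrum B, ¬ J ≤ q.asIdeal → FlatCA.FlatAt A q.asIdeal M)
    (h1 : TF J (EGA4.FibMod A B M)) : Module.Flat A M := by
  have hI : (maximalIdeal A).map (algebraMap A B) ≤ Ideal.jacobson ⊥ := by
    rw [jacobson_eq_maximalIdeal ⊥ bot_ne_top, Ideal.map_le_iff_le_comap]
    exact fun a ha hu => ha (isUnit_of_map_unit (algebraMap A B) a hu)
  refine GrothLib.Flatness.flat_of_forall_pow (S := B) (maximalIdeal A) hI fun n L L' _ _ _ _ f hL _ hf => ?_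
  rw [injective_iff_map_eq_zero]
  intro z hz
  exact tf_tensor J hU h1 n L hL z fun x hx => ker_torsion J hU f hf z hz x hx

end GrothLib.FlatOff
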