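import Mathlib
import Groth.Agent.Lib.FlatOff.Basic
import Groth.Agent.Lib.Depth.Transfer
import Groth.Agent.Lib.BCCoh.LengthCrit

/-!
# Depth of tensor products of flat modules with modules of finite length
-/

set_option autoImplicit false
universe u

open TensorProduct Function IsLocalRing CategoryTheory Abelian

namespace GrothLib.FlatOff

variable {A B : Type u} [CommRing A] [CommRing B] [Algebra A B] [IsLocalRing A] [IsNoetherianRing B]
  {M : Type u} [AddCommGroup M] [Module B M] [Module A M] [IsScalarTower A B M] [Module.Finite B M]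

/-- depth is at least the minimum along short exact sequences -/
theorem le_idealDepth_mid (J : Ideal B) (n : ℕ) {X Y Z : Type u} [AddCommGroup X] [Module B X]
    [AddCommGroup Y] [Module B Y] [AddCommGroup Z] [Module B Z] [Module.Finite B X] [Module.Finite B Y]
    [Module.Finite B Z] (f : X →ₗ[B] Y) (g : Y →ₗ[B] Z) (hf : Injective f) (hg : Surjective g)
    (hex : Function.Exact f g) (hX : (n : ℕ∞) ≤ LocCoh.idealDepth J X)
    (hZ : (n : ℕ∞) ≤ LocCoh.idealDepth J Z) : (n : ℕ∞) ≤ LocCoh.idealDepth J Y := by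
  rw [GrothLib.Depth.le_idealDepth_iff_ext] at hX hZ ⊢
  intro i hi
  let S : ShortComplex (ModuleCat.{u} B) := ShortComplex.mk (ModuleCat.ofHom f) (ModuleCat.ofHom g)
    (ModuleCat.hom_ext (LinearMap.ext fun z => hex.apply_apply_eq_zero z))
  have hS : S.ShortExact :=
    { exact := (ShortComplex.moduleCat_exact_iff _).2 fun v hv => (hex v).1 hv
      mono_f := (ModuleCat.mono_iff_injective _).2 hf
      epi_g := (ModuleCat.epi_iff_surjective _).2 hg }
  refine subsingleton_of_forall_eq 0 fun e => ?_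
  obtain ⟨x, hx⟩ := Ext.covariant_sequence_exact₂ (ModuleCat.of B (B ⧸ J)) hS e
    (@Subsingleton.elim _ (hZ i hi) _ _)
  rw [← hx, @Subsingleton.elim _ (hX i hi) x 0, Ext.zero_comp]

omit [IsLocalRing A] [IsNoetherianRing B] [Module.Finite B M] in
/-- `M ⊗ A/I ≅ M/(IB)M`, linearly over `B` -/
theorem nonempty_tensor_quot_equiv (I : Ideal A) :
    Nonempty ((M ⊗[A] (A ⧸ I)) ≃ₗ[B] M ⧸ (I.map (algebraMap A B) • (⊤ : Submodule B M))) := by
  let φ : M →ₗ[B] M ⊗[A] (A ⧸ I) :=
    (AlgebraTensorModule.mk A B M _).flip (Submodule.Quotient.mk 1)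
  have hsurj : Surjective φ := by
    intro z
    induction z using TensorProduct.induction_on with
    | zero => exact ⟨0, map_zero _⟩
    | add a b ha hb =>
      obtain ⟨m, rfl⟩ := ha
      obtain ⟨m', rfl⟩ := hb
      exact ⟨m + m', map_add _ _ _⟩
    | tmul m a =>
      obtain ⟨a, rfl⟩ := Submodule.Quotient.mk_surjective _ a
      refine ⟨a • m, ?_⟩
      show (a • m) ⊗ₜ[A] _ = _
      rw [smul_tmul, ← Submodule.Quotient.mk_smul, smul_eq_mul, mul_one]
  have hker : LinearMap.ker φ = I.map (algebraMap A B) • (⊤ : Submodule B M) := by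
    refine le_antisymm (fun m hm => ?_) (Submodule.smul_le.2 fun b hb y _ => ?_)
    · have h : (TensorProduct.quotTensorEquivQuotSMul M (I))
          ((TensorProduct.comm A _ _) (φ m)) = Submodule.Quotient.mk m := by
        show (TensorProduct.quotTensorEquivQuotSMul M (I))
          ((Ideal.Quotient.mk (I) 1) ⊗ₜ[A] m) = _
        simp
      rw [LinearMap.mem_ker.1 hm, map_zero, map_zero] at h
      have h' := (Submodule.Quotient.mk_eq_zero _).1 h.symm
      refine Submodule.smul_induction_on h' (fun a ha y _ => ?_) fun a b ha hb => add_mem ha hb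
      rw [← IsScalarTower.algebraMap_smul B a y]
      exact Submodule.smul_mem_smul (Ideal.mem_map_of_mem _ ha) trivial
    · rw [LinearMap.mem_ker]
      refine (Submodule.span_induction (p := fun b _ => ∀ y : M, φ (b • y) = 0) ?_ ?_ ?_ ?_ hb) y
      · rintro _ ⟨a, ha, rfl⟩ y
        show (algebraMap A B a • y) ⊗ₜ[A] _ = _
        rw [algebraMap_smul, smul_tmul, ← Submodule.Quotient.mk_smul, smul_eq_mul, mul_one,
          (Submodule.Quotient.mk_eq_zero _).2 ha, tmul_zero]
      · intro y; rw [zero_smul, map_zero]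
      · intro a b _ _ ha hb y; rw [add_smul, map_add, ha, hb, add_zero]
      · intro c a _ ha y; rw [smul_eq_mul, mul_smul, map_smul, ha, smul_zero]
  exact ⟨((Submodule.quotEquivOfEq _ _ hker.symm).trans (φ.quotKerEquivOfSurjective hsurj)).symm⟩

/-- depth of `M ⊗ L` for `L` of finite length -/
theorem le_idealDepth_tensor [IsNoetherianRing A] [Module.Flat A M] (J : Ideal B) (n : ℕ)
    (h : (n : ℕ∞) ≤ LocCoh.idealDepth J (EGA4.FibMod A B M)) {L : Type u} [AddCommGroup L] [Module A L]
    (hL : IsFiniteLength A L) : (n : ℕ∞) ≤ LocCoh.idealDepth J (M ⊗[A] L) := by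
  induction hL with
  | @of_subsingleton L _ _ _ =>
    have : Subsingleton (M ⊗[A] L) := inferInstance
    haveI : Subsingleton (Submodule B (M ⊗[A] L)) := (Submodule.subsingleton_iff B).2 this
    rw [LocCoh.idealDepth, if_pos (Subsingleton.elim _ _)]
    exact le_top
  | @of_simple_quotient L _ _ N _ hN ih =>
    haveI : IsNoetherian A N := (isFiniteLength_iff_isNoetherian_isArtinian.1 hN).1
    obtain ⟨I, hI, ⟨e⟩⟩ := isSimpleModule_iff_quot_maximal.1 (inferInstance : IsSimpleModule A (L ⧸ N))
    obtain rfl := IsLocalRing.eq_maximalIdeal hI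
    haveI : IsNoetherian A (L ⧸ N) := isNoetherian_of_linearEquiv e.symm
    haveI : IsNoetherian A L := isNoetherian_of_range_eq_ker N.subtype N.mkQ (by simp)
    haveI := GrothLib.Flatness.finite_tensor (R := A) (S := B) (M := M) L
    haveI := GrothLib.Flatness.finite_tensor (R := A) (S := B) (M := M) N
    haveI := GrothLib.Flatness.finite_tensor (R := A) (S := B) (M := M) (L ⧸ N)
    refine le_idealDepth_mid J n (AlgebraTensorModule.lTensor B M N.subtype)
      (AlgebraTensorModule.lTensor B M N.mkQ) ?_ (LinearMap.lTensor_surjective M N.mkQ_surjective)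
      (lTensor_exact M (LinearMap.exact_subtype_mkQ N) N.mkQ_surjective) ih ?_
    · exact Module.Flat.lTensor_preserves_injective_linearMap (M := M) N.subtype N.injective_subtype
    · obtain ⟨e'⟩ := nonempty_tensor_quot_equiv (A := A) (B := B) (M := M) (maximalIdeal A)
      rwa [GrothLib.Depth.idealDepth_eq_of_equiv J
        ((AlgebraTensorModule.congr (LinearEquiv.refl B M) e).trans e')]

theorem le_idealDepth_quot_pow [IsNoetherianRing A] [Module.Flat A M] (J : Ideal B) (n : ℕ)
    (h : (n : ℕ∞) ≤ LocCoh.idealDepth J (EGA4.FibMod A B M)) (k : ℕ) :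
    (n : ℕ∞) ≤ LocCoh.idealDepth J (M ⧸ ((EGA4.mB A B) ^ (k + 1) • (⊤ : Submodule B M))) := by
  have h' := le_idealDepth_tensor J n h (GrothLib.BCCoh.isFiniteLength_quotient_pow (A := A) k)
  haveI := GrothLib.Flatness.finite_tensor (R := A) (S := B) (M := M) (A ⧸ maximalIdeal A ^ (k + 1))
  obtain ⟨e⟩ := nonempty_tensor_quot_equiv (A := A) (B := B) (M := M) (maximalIdeal A ^ (k + 1))
  rw [EGA4.mB, ← Ideal.map_pow]
  rwa [← GrothLib.Depth.idealDepth_eq_of_equiv J e]

end GrothLib.FlatOff
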