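import Mathlib
import Groth.Agent.Lib.FlatOff.Depth
import Groth.Agent.Lib.Flatness.InjMod
import Groth.Agent.Lib.FlatFP.Syzygy
import Groth.Agent.Lib.FlatModel.Descent

/-!
# Short exact sequences flat off `V(J)`
-/

set_option autoImplicit false
universe u

open TensorProduct Function IsLocalRing CategoryTheory Abelian

namespace GrothLib.FlatOff

section SES

variable {B : Type u} [CommRing B] [IsNoetherianRing B] (J : Ideal B)
  {X Y Z : Type u} [AddCommGroup X] [Module B X] [AddCommGroup Y] [Module B Y] [AddCommGroup Z] [Module B Z]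
  [Module.Finite B X] [Module.Finite B Y] [Module.Finite B Z]
  (f : X →ₗ[B] Y) (g : Y →ₗ[B] Z) (hf : Injective f) (hg : Surjective g) (hex : Function.Exact f g)

include hf hg hex in
theorem le_idealDepth_left (n : ℕ) (hY : ((n + 1 : ℕ) : ℕ∞) ≤ LocCoh.idealDepth J Y)
    (hZ : (n : ℕ∞) ≤ LocCoh.idealDepth J Z) : ((n + 1 : ℕ) : ℕ∞) ≤ LocCoh.idealDepth J X := by
  rw [GrothLib.Depth.le_idealDepth_iff_ext] at hY hZ ⊢
  intro i hi
  let S : ShortComplex (ModuleCat.{u} B) := ShortComplex.mk (ModuleCat.ofHom f) (ModuleCat.ofHom g)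
    (ModuleCat.hom_ext (LinearMap.ext fun z => hex.apply_apply_eq_zero z))
  have hS : S.ShortExact :=
    { exact := (ShortComplex.moduleCat_exact_iff _).2 fun v hv => (hex v).1 hv
      mono_f := (ModuleCat.mono_iff_injective _).2 hf
      epi_g := (ModuleCat.epi_iff_surjective _).2 hg }
  refine subsingleton_of_forall_eq 0 fun e => ?_
  have he : e.comp (Ext.mk₀ S.f) (add_zero i) = 0 := @Subsingleton.elim _ (hY i hi) _ _
  cases i with
  | zero =>
    obtain ⟨φ, rfl⟩ := (Ext.mk₀_bijective _ _).surjective e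
    rw [Ext.mk₀_comp_mk₀] at he
    haveI := hS.mono_f
    have h0 : φ ≫ S.f = 0 := (Ext.mk₀_bijective _ _).injective (he.trans (Ext.mk₀_zero _ _).symm)
    rw [(cancel_mono S.f).1 (h0.trans Limits.zero_comp.symm), Ext.mk₀_zero]
  | succ j =>
    obtain ⟨x, hx⟩ := Ext.covariant_sequence_exact₁ (ModuleCat.of B (B ⧸ J)) hS e he (n₀ := j) rfl
    rw [← hx, @Subsingleton.elim _ (hZ j (by omega)) x 0, Ext.zero_comp]

include hf hg hex in
theorem le_idealDepth_right (n : ℕ) (hX : ((n + 1 : ℕ) : ℕ∞) ≤ LocCoh.idealDepth J X)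
    (hY : (n : ℕ∞) ≤ LocCoh.idealDepth J Y) : (n : ℕ∞) ≤ LocCoh.idealDepth J Z := by
  rw [GrothLib.Depth.le_idealDepth_iff_ext] at hX hY ⊢
  intro i hi
  let S : ShortComplex (ModuleCat.{u} B) := ShortComplex.mk (ModuleCat.ofHom f) (ModuleCat.ofHom g)
    (ModuleCat.hom_ext (LinearMap.ext fun z => hex.apply_apply_eq_zero z))
  have hS : S.ShortExact :=
    { exact := (ShortComplex.moduleCat_exact_iff _).2 fun v hv => (hex v).1 hv
      mono_f := (ModuleCat.mono_iff_injective _).2 hf
      epi_g := (ModuleCat.epi_iff_surjective _).2 hg }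
  refine subsingleton_of_forall_eq 0 fun e => ?_
  obtain ⟨x, hx⟩ := Ext.covariant_sequence_exact₃ (ModuleCat.of B (B ⧸ J)) hS e (n₁ := i + 1) rfl
    (@Subsingleton.elim _ (hX (i + 1) (by omega)) _ _)
  rw [← hx, @Subsingleton.elim _ (hY i hi) x 0, Ext.zero_comp]

end SES

variable {A B : Type u} [CommRing A] [CommRing B] [Algebra A B] (J : Ideal B)
  {X Y Z : Type u} [AddCommGroup X] [Module B X] [Module A X] [IsScalarTower A B X]
  [AddCommGroup Y] [Module B Y] [Module A Y] [IsScalarTower A B Y]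
  [AddCommGroup Z] [Module B Z] [Module A Z] [IsScalarTower A B Z]
  (f : X →ₗ[B] Y) (g : Y →ₗ[B] Z)

/-- the localisations of a short exact sequence at a prime -/
theorem exists_loc_ses (hf : Injective f) (hg : Surjective g) (hex : Function.Exact f g)
    (q : Ideal B) [q.IsPrime] :
    ∃ (f' : LocalizedModule q.primeCompl X →ₗ[A] LocalizedModule q.primeCompl Y)
      (g' : LocalizedModule q.primeCompl Y →ₗ[A] LocalizedModule q.primeCompl Z),
      Injective f' ∧ Surjective g' ∧ Function.Exact f' g' ∧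
      ∀ x, f' (LocalizedModule.mkLinearMap q.primeCompl X x) = LocalizedModule.mkLinearMap q.primeCompl Y (f x) := by
  let ℓX := LocalizedModule.mkLinearMap q.primeCompl X
  let ℓY := LocalizedModule.mkLinearMap q.primeCompl Y
  let ℓZ := LocalizedModule.mkLinearMap q.primeCompl Z
  refine ⟨(IsLocalizedModule.map q.primeCompl ℓX ℓY f).restrictScalars A,
    (IsLocalizedModule.map q.primeCompl ℓY ℓZ g).restrictScalars A,
    IsLocalizedModule.map_injective q.primeCompl ℓX ℓY f hf,
    IsLocalizedModule.map_surjective q.primeCompl ℓY ℓZ g hg,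
    IsLocalizedModule.map_exact q.primeCompl ℓX ℓY ℓZ f g hex,
    fun x => IsLocalizedModule.map_apply q.primeCompl ℓX ℓY f x⟩

theorem flatAt_left (hf : Injective f) (hg : Surjective g) (hex : Function.Exact f g)
    (q : Ideal B) [q.IsPrime] (hY : FlatCA.FlatAt A q Y) (hZ : FlatCA.FlatAt A q Z) :
    FlatCA.FlatAt A q X := by
  obtain ⟨f', g', hf', hg', hex', -⟩ := exists_loc_ses (A := A) f g hf hg hex q
  haveI : Module.Flat A (LocalizedModule q.primeCompl Y) := hY
  haveI : Module.Flat A (LocalizedModule q.primeCompl Z) := hZ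
  haveI := GrothLib.FlatFP.flat_ker g' hg'
  exact Module.Flat.of_linearEquiv ((LinearEquiv.ofInjective f' hf').trans
    (LinearEquiv.ofEq _ _ (LinearMap.exact_iff.1 hex').symm))

/-- kernels of `f ⊗ L` are torsion when the cokernel is flat off `V(J)` -/
theorem ker_torsion_left (hf : Injective f) (hg : Surjective g) (hex : Function.Exact f g)
    (hU : ∀ q : PrimeSpectrum B, ¬ J ≤ q.asIdeal → FlatCA.FlatAt A q.asIdeal Z)
    {L : Type u} [AddCommGroup L] [Module A L] (z : X ⊗[A] L)
    (hz : (f.restrictScalars A).rTensor L z = 0) (x : B) (hx : x ∈ J) : ∃ n : ℕ, x ^ n • z = 0 := by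
  suffices h : x ∈ (Submodule.span B {z}).annihilator.radical by
    obtain ⟨n, hn⟩ := h
    exact ⟨n, (Submodule.mem_annihilator_span_singleton z _).1 hn⟩
  rw [Ideal.radical_eq_sInf, Submodule.mem_sInf]
  rintro q ⟨hle, hq⟩
  by_contra hxq
  haveI := hq
  obtain ⟨f', g', hf', hg', hex', hcomm⟩ := exists_loc_ses (A := A) f g hf hg hex q
  haveI : Module.Flat A (LocalizedModule (Ideal.primeCompl q) Z) := hU ⟨q, hq⟩ fun h => hxq (h hx)
  let ℓX := LocalizedModule.mkLinearMap (Ideal.primeCompl q) X
  let ℓY := LocalizedModule.mkLinearMap (Ideal.primeCompl q) Y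
  let ℓL : X ⊗[A] L →ₗ[B] LocalizedModule (Ideal.primeCompl q) X ⊗[A] L :=
    AlgebraTensorModule.rTensor A L ℓX
  have hinj : Injective (f'.rTensor L) := (LinearMap.lTensor_inj_iff_rTensor_inj L f').1
    (LinearMap.lTensor_injective_of_exact_of_flat g' hg' f' hf' hex' L)
  have key : ∀ w : X ⊗[A] L, f'.rTensor L (ℓL w) =
      AlgebraTensorModule.rTensor A L ℓY ((f.restrictScalars A).rTensor L w) := fun w => by
    induction w using TensorProduct.induction_on with
    | zero => simp
    | add a b ha hb => simp only [map_add, ha, hb]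
    | tmul a b =>
      show f' (ℓX a) ⊗ₜ[A] b = ℓY (f a) ⊗ₜ[A] b
      exact congrArg (fun t => t ⊗ₜ[A] b) (hcomm a)
  have h0 : ℓL z = 0 := hinj (by rw [key, hz, map_zero, map_zero])
  obtain ⟨s, hs⟩ := (IsLocalizedModule.eq_zero_iff (Ideal.primeCompl q) ℓL).1 h0
  exact s.2 (hle ((Submodule.mem_annihilator_span_singleton z _).2 hs))

section Local

variable [IsLocalRing A] [IsNoetherianRing A] [IsNoetherianRing B]
  [Module.Finite B X] [Module.Finite B Y] [Module.Finite B Z]

theorem depth_tensor_iff (X : Type u) [AddCommGroup X] [Module B X] [Module A X] [IsScalarTower A B X]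
    [Module.Finite B X] (n : ℕ∞) :
    n ≤ LocCoh.idealDepth J (X ⊗[A] (A ⧸ maximalIdeal A)) ↔ n ≤ LocCoh.idealDepth J (EGA4.FibMod A B X) := by
  haveI := GrothLib.Flatness.finite_tensor (R := A) (S := B) (M := X) (A ⧸ maximalIdeal A)
  obtain ⟨e⟩ := nonempty_tensor_quot_equiv (A := A) (B := B) (M := X) (maximalIdeal A)
  rw [GrothLib.Depth.idealDepth_eq_of_equiv J e]

theorem injective_tensor_k_of_flatOff (hf : Injective f) (hg : Surjective g) (hex : Function.Exact f g)
    (hU : ∀ q : PrimeSpectrum B, ¬ J ≤ q.asIdeal → FlatCA.FlatAt A q.asIdeal Z)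
    (h : 1 ≤ LocCoh.idealDepth J (EGA4.FibMod A B X)) :
    Injective ((f.restrictScalars A).rTensor (A ⧸ maximalIdeal A)) := by
  obtain ⟨e⟩ := nonempty_tensor_quot_equiv (A := A) (B := B) (M := X) (maximalIdeal A)
  have hTF : TF J (X ⊗[A] (A ⧸ maximalIdeal A)) := TF.of_injective e.toLinearMap e.injective (tf_of_idealDepth h)
  rw [injective_iff_map_eq_zero]
  exact fun z hz => hTF z fun x hx => ker_torsion_left J f g hf hg hex hU z hz x hx

theorem le_depth_fib_left (hg : Surjective g) (hex : Function.Exact f g)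
    (hinj : Injective ((f.restrictScalars A).rTensor (A ⧸ maximalIdeal A))) (n : ℕ)
    (hY : ((n + 1 : ℕ) : ℕ∞) ≤ LocCoh.idealDepth J (EGA4.FibMod A B Y))
    (hZ : (n : ℕ∞) ≤ LocCoh.idealDepth J (EGA4.FibMod A B Z)) :
    ((n + 1 : ℕ) : ℕ∞) ≤ LocCoh.idealDepth J (EGA4.FibMod A B X) := by
  haveI := GrothLib.Flatness.finite_tensor (R := A) (S := B) (M := X) (A ⧸ maximalIdeal A)
  haveI := GrothLib.Flatness.finite_tensor (R := A) (S := B) (M := Y) (A ⧸ maximalIdeal A)
  haveI := GrothLib.Flatness.finite_tensor (R := A) (S := B) (M := Z) (A ⧸ maximalIdeal A)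
  rw [← depth_tensor_iff (A := A)] at hY hZ ⊢
  exact le_idealDepth_left J (AlgebraTensorModule.rTensor A _ f) (AlgebraTensorModule.rTensor A _ g) hinj
    (LinearMap.rTensor_surjective (A ⧸ maximalIdeal A) (g := g.restrictScalars A) hg)
    (rTensor_exact (A ⧸ maximalIdeal A) (f := f.restrictScalars A) (g := g.restrictScalars A) hex hg) n hY hZ

theorem le_depth_fib_right (hg : Surjective g) (hex : Function.Exact f g)
    (hinj : Injective ((f.restrictScalars A).rTensor (A ⧸ maximalIdeal A))) (n : ℕ)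
    (hX : ((n + 1 : ℕ) : ℕ∞) ≤ LocCoh.idealDepth J (EGA4.FibMod A B X))
    (hY : (n : ℕ∞) ≤ LocCoh.idealDepth J (EGA4.FibMod A B Y)) :
    (n : ℕ∞) ≤ LocCoh.idealDepth J (EGA4.FibMod A B Z) := by
  haveI := GrothLib.Flatness.finite_tensor (R := A) (S := B) (M := X) (A ⧸ maximalIdeal A)
  haveI := GrothLib.Flatness.finite_tensor (R := A) (S := B) (M := Y) (A ⧸ maximalIdeal A)
  haveI := GrothLib.Flatness.finite_tensor (R := A) (S := B) (M := Z) (A ⧸ maximalIdeal A)
  rw [← depth_tensor_iff (A := A)] at hX hY ⊢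
  exact le_idealDepth_right J (AlgebraTensorModule.rTensor A _ f) (AlgebraTensorModule.rTensor A _ g) hinj
    (LinearMap.rTensor_surjective (A ⧸ maximalIdeal A) (g := g.restrictScalars A) hg)
    (rTensor_exact (A ⧸ maximalIdeal A) (f := f.restrictScalars A) (g := g.restrictScalars A) hex hg) n hX hY

variable [IsLocalRing B] [IsLocalHom (algebraMap A B)]

theorem flat_right [Module.Flat A Y] (hg : Surjective g) (hex : Function.Exact f g)
    (hinj : Injective ((f.restrictScalars A).rTensor (A ⧸ maximalIdeal A))) : Module.Flat A Z := by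
  have hu : Injective ((f.restrictScalars A).lTensor (ResidueField A)) :=
    (LinearMap.lTensor_inj_iff_rTensor_inj (A ⧸ maximalIdeal A) (f.restrictScalars A)).2 hinj
  obtain ⟨-, hflat, -⟩ := GrothLib.Flatness.flat_coker_of_forall_mem (f.restrictScalars A)
    fun J' x hx => GrothLib.Flatness.mem_smul_top_of_map_mem (S := B) (f.restrictScalars A) hu J' x hx
  haveI := hflat
  exact Module.Flat.of_linearEquiv ((Submodule.quotEquivOfEq _ _
    (LinearMap.exact_iff.1 (show Function.Exact (f.restrictScalars A) (g.restrictScalars A) from hex))).symm.trans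
    ((g.restrictScalars A).quotKerEquivOfSurjective hg)).symm

end Local

end GrothLib.FlatOff

namespace GrothLib.FlatOff

variable {A B : Type u} [CommRing A] [CommRing B] [Algebra A B] {X Y Z : Type u}
  [AddCommGroup X] [Module B X] [Module A X] [IsScalarTower A B X]
  [AddCommGroup Y] [Module B Y] [Module A Y] [IsScalarTower A B Y]
  [AddCommGroup Z] [Module B Z] [Module A Z] [IsScalarTower A B Z]
  (f : X →ₗ[B] Y) (g : Y →ₗ[B] Z)

/-- flat middle and right terms give a flat left term -/
theorem flat_left [Module.Flat A Y] [Module.Flat A Z] (hf : Injective f) (hg : Surjective g)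
    (hex : Function.Exact f g) : Module.Flat A X := by
  haveI := GrothLib.FlatFP.flat_ker (g.restrictScalars A) hg
  exact Module.Flat.of_linearEquiv ((LinearEquiv.ofInjective (f.restrictScalars A) hf).trans
    (LinearEquiv.ofEq _ _
      (LinearMap.exact_iff.1 (show Function.Exact (f.restrictScalars A) (g.restrictScalars A) from hex)).symm))

/-- flat right term: tensoring keeps the left map injective -/
theorem injective_rTensor_of_flat [Module.Flat A Z] (hf : Injective f) (hg : Surjective g)
    (hex : Function.Exact f g) (L : Type u) [AddCommGroup L] [Module A L] :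
    Injective ((f.restrictScalars A).rTensor L) :=
  (LinearMap.lTensor_inj_iff_rTensor_inj L (f.restrictScalars A)).1
    (LinearMap.lTensor_injective_of_exact_of_flat (g.restrictScalars A) hg (f.restrictScalars A) hf hex L)

end GrothLib.FlatOff
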