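import Mathlib
import Groth.Agent.Lib.FlatOff.FourTerm
import Groth.Agent.Lib.DepthKer.Basic
import Groth.Agent.Lib.LC.Torsion

/-!
# Flatness of the cokernel from `H²_J` of the closed fibre of the kernel
-/

set_option autoImplicit false
universe u

open TensorProduct Function IsLocalRing CategoryTheory

namespace GrothLib.FlatOff

theorem isPowerTorsion_of_forall {B : Type u} [CommRing B] [IsNoetherianRing B] (J : Ideal B)
    {N : Type u} [AddCommGroup N] [Module B N] (h : ∀ z : N, ∀ x ∈ J, ∃ n : ℕ, x ^ n • z = 0) :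
    LocCoh.IsPowerTorsion J N := fun z => by
  have hle : J ≤ (Submodule.span B {z}).annihilator.radical := fun x hx => by
    obtain ⟨n, hn⟩ := h z x hx
    exact ⟨n, (Submodule.mem_annihilator_span_singleton z _).2 hn⟩
  obtain ⟨n, hn⟩ := Ideal.exists_pow_le_of_le_radical_of_fg hle (IsNoetherian.noetherian J)
  exact ⟨n, fun a ha => (Submodule.mem_annihilator_span_singleton z a).1 (hn ha)⟩

/-- a map with torsion kernel and cokernel pushes vanishing of `H^{i+1}` forward -/
theorem subsingleton_H_of_torsion {B : Type u} [CommRing B] [IsNoetherianRing B] (J : Ideal B)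
    {M N : Type u} [AddCommGroup M] [Module B M] [AddCommGroup N] [Module B N] (a : M →ₗ[B] N)
    (hker : ∀ z, a z = 0 → ∀ x ∈ J, ∃ n : ℕ, x ^ n • z = 0)
    (hcoker : ∀ y, ∀ x ∈ J, ∃ n : ℕ, x ^ n • y ∈ LinearMap.range a) (i : ℕ)
    (hM : Subsingleton ((localCohomology J (i + 1)).obj (ModuleCat.of B M))) :
    Subsingleton ((localCohomology J (i + 1)).obj (ModuleCat.of B N)) := by
  let S₁ : ShortComplex (ModuleCat.{u} B) := ShortComplex.mk
    (ModuleCat.ofHom (LinearMap.ker a).subtype) (ModuleCat.ofHom a.rangeRestrict)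
    (ModuleCat.hom_ext (LinearMap.ext fun z => Subtype.ext z.2))
  have hS₁ : S₁.ShortExact :=
    { exact := (ShortComplex.moduleCat_exact_iff _).2 fun x hx => ⟨⟨x, congrArg Subtype.val hx⟩, rfl⟩
      mono_f := (ModuleCat.mono_iff_injective _).2 (LinearMap.ker a).injective_subtype
      epi_g := (ModuleCat.epi_iff_surjective _).2 a.surjective_rangeRestrict }
  have h1 : LocCoh.IsPowerTorsion J S₁.X₁ := isPowerTorsion_of_forall J fun z x hx => by
    obtain ⟨n, hn⟩ := hker z.1 z.2 x hx
    exact ⟨n, Subtype.ext hn⟩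
  have hR : Subsingleton ((localCohomology J (i + 1)).obj (ModuleCat.of B (LinearMap.range a))) := by
    haveI := hM
    exact (GrothLib.LC.map_bijective_of_torsion J hS₁ h1 i).2.subsingleton
  refine GrothLib.LC.subsingleton₂ J (GrothLib.LC.subQuot_shortExact (M := ModuleCat.of B N) (LinearMap.range a)) (i + 1) hR
    (GrothLib.LC.subsingleton_of_isPowerTorsion J i _ (isPowerTorsion_of_forall J fun z x hx => ?_))
  obtain ⟨y, rfl⟩ := Submodule.Quotient.mk_surjective _ z
  obtain ⟨n, hn⟩ := hcoker y x hx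
  exact ⟨n, (Submodule.Quotient.mk_smul _ _ _).symm.trans ((Submodule.Quotient.mk_eq_zero _).2 hn)⟩

variable {A B : Type u} [CommRing A] [CommRing B] [IsNoetherianRing A] [IsNoetherianRing B]
  [IsLocalRing A] [Algebra A B] (J : Ideal B)
  {F E0 E1 G : Type u}
  [AddCommGroup F] [Module B F] [Module A F] [IsScalarTower A B F] [Module.Finite B F]
  [AddCommGroup E0] [Module B E0] [Module A E0] [IsScalarTower A B E0] [Module.Finite B E0] [Module.Flat A E0]
  [AddCommGroup E1] [Module B E1] [Module A E1] [IsScalarTower A B E1] [Module.Finite B E1] [Module.Flat A E1]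
  [AddCommGroup G] [Module B G] [Module A G] [IsScalarTower A B G] [Module.Finite B G]
  (f : F →ₗ[B] E0) (u : E0 →ₗ[B] E1) (v : E1 →ₗ[B] G)

/-- if `H²_J` of the closed fibre of the kernel vanishes, the closed fibre of the cokernel has depth `≥ 1` -/
theorem one_le_depth_coker_fib
    (hf : Injective f) (hfu : Function.Exact f u) (huv : Function.Exact u v) (hv : Surjective v)
    (hGU : ∀ q : PrimeSpectrum B, ¬ J ≤ q.asIdeal → FlatCA.FlatAt A q.asIdeal G)
    (h0 : 2 ≤ LocCoh.idealDepth J (EGA4.FibMod A B E0)) (h1 : 1 ≤ LocCoh.idealDepth J (EGA4.FibMod A B E1))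
    (hH2 : Subsingleton (LocCoh.H J 2 (EGA4.FibMod A B F))) :
    1 ≤ LocCoh.idealDepth J (EGA4.FibMod A B G) := by
  let k := A ⧸ maximalIdeal A
  let K := LinearMap.range u
  let u' : E0 →ₗ[B] K := u.rangeRestrict
  let i : K →ₗ[B] E1 := K.subtype
  have hu' : Surjective u' := LinearMap.surjective_rangeRestrict u
  have hi : Injective i := K.injective_subtype
  have hfu' : Function.Exact f u' := fun z => by
    rw [← hfu z]
    exact Subtype.ext_iff
  have hiv : Function.Exact i v := fun z => by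
    rw [huv z]
    exact ⟨fun ⟨a, ha⟩ => ⟨⟨z, ⟨a, ha⟩⟩, rfl⟩, fun ⟨⟨w, a, ha⟩, hw⟩ => ⟨a, ha.trans hw⟩⟩
  have hKU : ∀ q : PrimeSpectrum B, ¬ J ≤ q.asIdeal → FlatCA.FlatAt A q.asIdeal K := fun q hq =>
    flatAt_left i v hi hv hiv q.asIdeal
      (GrothLib.FlatModel.flat_localizedModule (Ideal.primeCompl q.asIdeal)) (hGU q hq)
  haveI := GrothLib.Flatness.finite_tensor (R := A) (S := B) (M := F) k
  haveI := GrothLib.Flatness.finite_tensor (R := A) (S := B) (M := E0) k
  haveI := GrothLib.Flatness.finite_tensor (R := A) (S := B) (M := E1) k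
  haveI := GrothLib.Flatness.finite_tensor (R := A) (S := B) (M := G) k
  rw [← depth_tensor_iff (A := A)] at h0 h1 ⊢
  let fb : F ⊗[A] k →ₗ[B] E0 ⊗[A] k := AlgebraTensorModule.rTensor A k f
  let ub : E0 ⊗[A] k →ₗ[B] E1 ⊗[A] k := AlgebraTensorModule.rTensor A k u
  let vb : E1 ⊗[A] k →ₗ[B] G ⊗[A] k := AlgebraTensorModule.rTensor A k v
  let L := LinearMap.ker ub
  let a : F ⊗[A] k →ₗ[B] L := fb.codRestrict L fun z => by
    rw [LinearMap.mem_ker]
    induction z using TensorProduct.induction_on with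
    | zero => simp
    | add x y hx hy => rw [map_add, map_add, hx, hy, add_zero]
    | tmul x y =>
      show u (f x) ⊗ₜ[A] y = 0
      rw [hfu.apply_apply_eq_zero, zero_tmul]
  have hker : ∀ z, a z = 0 → ∀ x ∈ J, ∃ n : ℕ, x ^ n • z = 0 := fun z hz x hx =>
    ker_torsion_left J f u' hf hu' hfu' hKU z (congrArg Subtype.val hz) x hx
  have hcoker : ∀ y, ∀ x ∈ J, ∃ n : ℕ, x ^ n • y ∈ LinearMap.range a := fun y x hx => by
    have key : ∀ w : E0 ⊗[A] k, (i.restrictScalars A).rTensor k ((u'.restrictScalars A).rTensor k w) = ub w :=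
      fun w => by
        induction w using TensorProduct.induction_on with
        | zero => simp
        | add x y hx hy => simp only [map_add, hx, hy]
        | tmul x y => rfl
    obtain ⟨n, hn⟩ := ker_torsion_left J i v hi hv hiv hGU ((u'.restrictScalars A).rTensor k y.1)
      (by rw [key]; exact y.2) x hx
    have hn' : (u'.restrictScalars A).rTensor k (x ^ n • y.1) = 0 :=
      ((AlgebraTensorModule.rTensor A k u').map_smul (x ^ n) y.1).trans hn
    obtain ⟨w, hw⟩ := (rTensor_exact k (f := f.restrictScalars A) (g := u'.restrictScalars A) hfu' hu'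
      (x ^ n • y.1)).1 hn'
    exact ⟨n, w, Subtype.ext hw⟩
  have hF2 : Subsingleton ((localCohomology J (1 + 1)).obj (ModuleCat.of B (F ⊗[A] k))) := by
    obtain ⟨e⟩ := nonempty_tensor_quot_equiv (A := A) (B := B) (M := F) (maximalIdeal A)
    haveI := hH2
    exact ((localCohomology J 2).mapIso e.toModuleIso).toLinearEquiv.toEquiv.subsingleton
  have hL2 := subsingleton_H_of_torsion J a hker hcoker 1 hF2
  have hL : 2 ≤ LocCoh.idealDepth J L :=
    GrothLib.DepthKer.two_le_of_exact J L.subtype ub L.injective_subtype (LinearMap.exact_subtype_ker_map ub) h0 h1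
  have hL3 : ((2 + 1 : ℕ) : ℕ∞) ≤ LocCoh.idealDepth J L := by
    rw [GrothLib.Depth.le_idealDepth_iff_H]
    intro j hj
    rcases Nat.lt_or_ge j 2 with hj' | hj'
    · exact (GrothLib.Depth.le_idealDepth_iff_H J 2).1 hL j hj'
    · obtain rfl : j = 2 := by omega
      exact hL2
  have hI : ((1 + 1 : ℕ) : ℕ∞) ≤ LocCoh.idealDepth J (LinearMap.range ub) :=
    le_idealDepth_right J L.subtype ub.rangeRestrict L.injective_subtype ub.surjective_rangeRestrict
      (fun z => by
        constructor
        · intro hz; exact ⟨⟨z, congrArg Subtype.val hz⟩, rfl⟩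
        · rintro ⟨w, rfl⟩; exact Subtype.ext w.2) 2 hL3 h0
  refine le_idealDepth_right J (LinearMap.range ub).subtype vb (Submodule.injective_subtype _)
    (LinearMap.rTensor_surjective k (g := v.restrictScalars A) hv) (fun z => ?_) 1 hI h1
  refine Iff.trans (rTensor_exact k (f := u.restrictScalars A) (g := v.restrictScalars A) huv hv z) ?_
  constructor
  · rintro ⟨w, rfl⟩; exact ⟨⟨_, w, rfl⟩, rfl⟩
  · rintro ⟨⟨_, w, rfl⟩, rfl⟩; exact ⟨w, rfl⟩

end GrothLib.FlatOff
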