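import Mathlib
import Groth.Agent.Lib.FlatOff.BaseDepthMain
import Groth.Agent.Lib.FreeOff.Basic
import Groth.Agent.Lib.DepthKer.Reflexive

/-!
# Double duals under base change
-/

set_option autoImplicit false
universe u

open TensorProduct Function

namespace GrothLib.FlatOff

theorem two_le_depth_dual {B : Type u} [CommRing B] [IsNoetherianRing B] (J : Ideal B)
    (h2 : 2 ≤ LocCoh.idealDepth J B) (D : Type u) [AddCommGroup D] [Module B D] [Module.Finite B D]
    [Module.Finite B (Module.Dual B D)] :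
    2 ≤ LocCoh.idealDepth J (Module.Dual B D) := by
  classical
  obtain ⟨n, π, hπ⟩ := Module.Finite.exists_fin' B D
  haveI : Module.Finite B (LinearMap.ker π) := Module.Finite.iff_fg.2 (IsNoetherian.noetherian _)
  obtain ⟨m, κ, hκ⟩ := Module.Finite.exists_fin' B (LinearMap.ker π)
  let g₀ : (Fin m → B) →ₗ[B] (Fin n → B) := (LinearMap.ker π).subtype.comp κ
  let en : (Fin n → B) ≃ₗ[B] Module.Dual B (Fin n → B) := (Pi.basisFun B (Fin n)).toDualEquiv
  let em : (Fin m → B) ≃ₗ[B] Module.Dual B (Fin m → B) := (Pi.basisFun B (Fin m)).toDualEquiv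
  let g : Module.Dual B D →ₗ[B] (Fin n → B) := en.symm.toLinearMap.comp π.dualMap
  let h : (Fin n → B) →ₗ[B] (Fin m → B) := em.symm.toLinearMap.comp (g₀.dualMap.comp en.toLinearMap)
  have hg : Injective g := en.symm.injective.comp (LinearMap.dualMap_injective_of_surjective hπ)
  have hgh : Function.Exact g h := fun a => by
    constructor
    · intro ha
      have ha' : g₀.dualMap (en a) = 0 := em.symm.injective (ha.trans (map_zero em.symm).symm)
      have hle : LinearMap.ker π ≤ LinearMap.ker (en a) := fun w hw => by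
        obtain ⟨z, hz⟩ := hκ ⟨w, hw⟩
        have := LinearMap.congr_fun ha' z
        rw [LinearMap.mem_ker]
        simpa [g₀, hz] using this
      refine ⟨(Submodule.liftQ (LinearMap.ker π) (en a) hle).comp
        (π.quotKerEquivOfSurjective hπ).symm.toLinearMap, en.injective ?_⟩
      show en (en.symm (π.dualMap _)) = en a
      rw [LinearEquiv.apply_symm_apply]
      refine LinearMap.ext fun w => ?_
      show Submodule.liftQ _ (en a) hle ((π.quotKerEquivOfSurjective hπ).symm (π w)) = _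
      rw [show (π.quotKerEquivOfSurjective hπ).symm (π w) = Submodule.Quotient.mk w from
        (LinearEquiv.symm_apply_eq _).2 (π.quotKerEquivOfSurjective_apply_mk hπ w).symm]
      rfl
    · rintro ⟨x, rfl⟩
      show em.symm (g₀.dualMap (en (en.symm (π.dualMap x)))) = 0
      rw [LinearEquiv.apply_symm_apply, LinearEquiv.map_eq_zero_iff]
      refine LinearMap.ext fun z => ?_
      show x (π (g₀ z)) = 0
      rw [show π (g₀ z) = 0 from (κ z).2, map_zero]
  exact GrothLib.DepthKer.two_le_of_exact J g h hg hgh (GrothLib.DepthKer.le_idealDepth_pi (E0 := B) J 2 h2 n)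
    (GrothLib.DepthKer.le_idealDepth_pi (E0 := B) J 1 ((one_le_two).trans h2) m)

/-- a map invertible up to powers of `J` dualises to a bijection when `depth_J ≥ 2` -/
theorem dualMap_bijective_of_pseudoInverse {R : Type u} [CommRing R] [IsNoetherianRing R] (I : Ideal R)
    (h2 : 2 ≤ LocCoh.idealDepth I R) {M N : Type u} [AddCommGroup M] [Module R M] [AddCommGroup N] [Module R N]
    (e : M →ₗ[R] N) (S : Set R) (hS : I ≤ Ideal.span S)
    (hinv : ∀ a ∈ S, ∃ (k : ℕ) (σ : N →ₗ[R] M), (∀ x, σ (e x) = a ^ k • x) ∧ ∀ y, e (σ y) = a ^ k • y) :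
    Bijective e.dualMap := by
  classical
  let 𝔞 : Ideal R :=
    { carrier := {r | (∀ y, r • y ∈ LinearMap.range e)}
      add_mem' := fun ha hb y => by rw [add_smul]; exact add_mem (ha y) (hb y)
      zero_mem' := fun y => by rw [zero_smul]; exact zero_mem _
      smul_mem' := fun c r hr y => by rw [smul_eq_mul, mul_comm, mul_smul]; exact hr (c • y) }
  have h𝔞 : I ≤ 𝔞.radical := hS.trans (Ideal.span_le.2 fun a ha => by
    obtain ⟨k, σ, -, hσ⟩ := hinv a ha
    exact ⟨k, fun y => ⟨σ y, hσ y⟩⟩)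
  by_cases hI : I • (⊤ : Submodule R R) = ⊤
  · have hI' : I = ⊤ := by rwa [smul_eq_mul, Ideal.mul_top] at hI
    have h1I : (1 : R) ∈ I := by rw [hI']; trivial
    have hsurj : Surjective e := fun y => by
      have h1 : (1 : R) ∈ 𝔞 := by
        have := h𝔞 h1I
        obtain ⟨k, hk⟩ := this
        rwa [one_pow] at hk
      have := h1 y
      rwa [one_smul] at this
    have hinj : Injective e := by
      rw [injective_iff_map_eq_zero]
      intro x hx
      have hle : I ≤ Ideal.radical (LinearMap.ker (LinearMap.toSpanSingleton R M x)) :=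
        hS.trans (Ideal.span_le.2 fun a ha => by
          obtain ⟨k, σ, hσ, -⟩ := hinv a ha
          exact ⟨k, by rw [LinearMap.mem_ker, LinearMap.toSpanSingleton_apply, ← hσ, hx, map_zero]⟩)
      obtain ⟨k, hk⟩ := hle h1I
      rwa [one_pow, LinearMap.mem_ker, LinearMap.toSpanSingleton_apply, one_smul] at hk
    exact (LinearEquiv.ofBijective e ⟨hinj, hsurj⟩).dualMap.bijective
  obtain ⟨rs, hlen, hmem, hreg⟩ := (GrothLib.Depth.le_idealDepth_iff_exists I hI 2).1 (by exact_mod_cast h2)
  obtain ⟨x, y, rfl⟩ := List.length_eq_two.1 hlen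
  obtain ⟨hx, hy⟩ := (RingTheory.Sequence.isWeaklyRegular_cons_iff R x [y]).1 hreg
  have hy' : IsSMulRegular (QuotSMulTop x R) y := ((RingTheory.Sequence.isWeaklyRegular_cons_iff _ y []).1 hy).1
  have hxI : x ∈ I := hmem x (by simp)
  have hyI : y ∈ I := hmem y (by simp)
  have hinj : Injective e.dualMap := by
    intro φ φ' hφ
    refine LinearMap.ext fun n => ?_
    obtain ⟨k, hk⟩ := h𝔞 hxI
    obtain ⟨m, hm⟩ := hk n
    refine (hx.pow k) ?_
    show x ^ k • φ n = x ^ k • φ' n
    rw [← map_smul, ← map_smul, ← hm]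
    exact LinearMap.congr_fun hφ m
  refine ⟨hinj, fun φ => ?_⟩
  let 𝔟 : Ideal R :=
    { carrier := {r | ∃ ψ : Module.Dual R N, e.dualMap ψ = r • φ}
      add_mem' := fun ⟨a, ha⟩ ⟨b, hb⟩ => ⟨a + b, by rw [map_add, ha, hb, add_smul]⟩
      zero_mem' := ⟨0, by rw [map_zero, zero_smul]⟩
      smul_mem' := fun c r ⟨a, ha⟩ => ⟨c • a, by rw [map_smul, ha, smul_eq_mul, mul_smul]⟩ }
  have h𝔟 : I ≤ 𝔟.radical := hS.trans (Ideal.span_le.2 fun a ha => by
    obtain ⟨k, σ, hσ, -⟩ := hinv a ha
    exact ⟨k, σ.dualMap φ, LinearMap.ext fun z => by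
      show φ (σ (e z)) = (a ^ k • φ) z
      rw [hσ, map_smul, LinearMap.smul_apply]⟩)
  obtain ⟨M', hM'⟩ := h𝔟 hyI
  obtain ⟨ψ₂, hψ₂⟩ := hM'
  have step : ∀ k, x ^ (k + 1) ∈ 𝔟 → x ^ k ∈ 𝔟 := by
    rintro k ⟨ψ₁, hψ₁⟩
    have heq : y ^ M' • ψ₁ = x ^ (k + 1) • ψ₂ := hinj (by
      rw [map_smul, map_smul, hψ₁, hψ₂, smul_smul, smul_smul, mul_comm])
    have hdvd : ∀ n, x ∣ ψ₁ n := fun n => by
      have h1 : (y ^ M') • (Submodule.Quotient.mk (ψ₁ n) : QuotSMulTop x R) = 0 := by
        refine (Submodule.Quotient.mk_smul _ _ _).symm.trans ((Submodule.Quotient.mk_eq_zero _).2 ?_)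
        rw [Submodule.mem_smul_pointwise_iff_exists]
        refine ⟨x ^ k * ψ₂ n, trivial, ?_⟩
        have := LinearMap.congr_fun heq n
        rw [LinearMap.smul_apply, LinearMap.smul_apply] at this
        rw [this, smul_eq_mul, smul_eq_mul, pow_succ]
        ring
      have h2 := (hy'.pow M').right_eq_zero_of_smul h1
      rw [Submodule.Quotient.mk_eq_zero, Submodule.mem_smul_pointwise_iff_exists] at h2
      obtain ⟨c, -, hc⟩ := h2
      exact ⟨c, hc.symm⟩
    choose c hc using hdvd
    let ψ : Module.Dual R N :=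
      { toFun := c
        map_add' := fun a b => hx (by show x • _ = x • _; rw [smul_add, smul_eq_mul, smul_eq_mul, smul_eq_mul, ← hc, ← hc, ← hc, map_add])
        map_smul' := fun r a => hx (by show x • _ = x • _; rw [RingHom.id_apply, smul_comm x r, smul_eq_mul, smul_eq_mul, smul_eq_mul, ← hc, ← hc, map_smul, smul_eq_mul]) }
    refine ⟨ψ, LinearMap.ext fun z => hx ?_⟩
    show x • c (e z) = x • ((x ^ k • φ) z)
    rw [smul_eq_mul, ← hc]
    show e.dualMap ψ₁ z = _
    rw [hψ₁, LinearMap.smul_apply, LinearMap.smul_apply, smul_smul, ← pow_succ']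
  obtain ⟨k, hk⟩ := h𝔟 hxI
  have h0 : x ^ 0 ∈ 𝔟 := by
    induction k with
    | zero => exact hk
    | succ k ih => exact ih (step k hk)
  obtain ⟨ψ, hψ⟩ := h0
  exact ⟨ψ, by rw [hψ, pow_zero, one_smul]⟩

section Main

variable {B : Type u} [CommRing B] [IsNoetherianRing B] (J : Ideal B) (F : Type u) [AddCommGroup F] [Module B F]
  [Module.Finite B F]

theorem finite_dual (D : Type u) [AddCommGroup D] [Module B D] [Module.Finite B D] :
    Module.Finite B (Module.Dual B D) := by
  obtain ⟨n, f, hf⟩ := Module.Finite.exists_fin' B D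
  exact Module.Finite.of_injective f.dualMap (LinearMap.dualMap_injective_of_surjective hf)

/-- the evaluation map is invertible up to powers of elements of `J` -/
theorem exists_pseudoInverse_eval (hU : ∀ q : PrimeSpectrum B, ¬ J ≤ q.asIdeal →
      Module.Free (Localization.AtPrime q.asIdeal) (LocalizedModule q.asIdeal.primeCompl F))
    (a : B) (ha : a ∈ J) :
    ∃ (k : ℕ) (σ : Module.Dual B (Module.Dual B F) →ₗ[B] F),
      (∀ x, σ (Module.Dual.eval B F x) = a ^ k • x) ∧ ∀ y, Module.Dual.eval B F (σ y) = a ^ k • y := by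
  classical
  haveI := finite_dual (B := B) F
  haveI := finite_dual (B := B) (Module.Dual B F)
  let e := Module.Dual.eval B F
  have hloc : ∀ q : PrimeSpectrum B, ¬ J ≤ q.asIdeal →
      (∀ g : F, e g = 0 → ∃ c ∉ q.asIdeal, c • g = 0) ∧
      ∀ ξ, ∃ (c : B) (g : F), c ∉ q.asIdeal ∧ c • ξ = e g := fun q hq => by
    haveI := hU q hq
    haveI : Module.Finite (Localization.AtPrime q.asIdeal) (LocalizedModule q.asIdeal.primeCompl F) :=
      Module.Finite.of_isLocalizedModule q.asIdeal.primeCompl (LocalizedModule.mkLinearMap q.asIdeal.primeCompl F)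
    exact GrothLib.DepthKer.eval_locally_bijective F q.asIdeal inferInstance
  have hker : ∀ g : F, e g = 0 → a ∈ ((Submodule.span B {g}).annihilator).radical := fun g hg => by
    obtain ⟨k, hk⟩ := GrothLib.DepthKer.exists_pow_smul_eq_zero J g fun q hq => (hloc q hq).1 g hg
    exact ⟨k, (Submodule.mem_annihilator_span_singleton _ _).2 (hk _ (Ideal.pow_mem_pow ha k))⟩
  have hcok : ∀ ξ, ∃ k : ℕ, a ^ k • ξ ∈ LinearMap.range e := fun ξ => by
    obtain ⟨k, hk⟩ := GrothLib.DepthKer.exists_pow_smul_eq_zero J (Submodule.Quotient.mk ξ : _ ⧸ LinearMap.range e)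
      fun q hq => by
        obtain ⟨c, g, hc, hg⟩ := (hloc q hq).2 ξ
        exact ⟨c, hc, by rw [← Submodule.Quotient.mk_smul, Submodule.Quotient.mk_eq_zero, hg]; exact ⟨g, rfl⟩⟩
    exact ⟨k, (Submodule.Quotient.mk_eq_zero _).1 ((Submodule.Quotient.mk_smul _ _ _).trans (hk _ (Ideal.pow_mem_pow ha k)))⟩
  obtain ⟨k₁, hk₁⟩ : ∃ k : ℕ, ∀ g : LinearMap.ker e, a ^ k • g = 0 := by
    haveI : Module.Finite B (LinearMap.ker e) := Module.Finite.iff_fg.2 (IsNoetherian.noetherian _)
    obtain ⟨G, hG⟩ := Module.Finite.fg_top (R := B) (M := LinearMap.ker e)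
    choose k hk using fun g : LinearMap.ker e => hker g.1 g.2
    refine ⟨G.sup k, fun g => ?_⟩
    have hg : g ∈ Submodule.span B (G : Set (LinearMap.ker e)) := by rw [hG]; trivial
    induction hg using Submodule.span_induction with
    | mem g hg =>
      have h1 := (Submodule.mem_annihilator_span_singleton _ _).1 (hk g)
      apply Subtype.ext
      show a ^ _ • (g : F) = 0
      rw [← Nat.sub_add_cancel (Finset.le_sup hg), pow_add, mul_smul, h1, smul_zero]
    | zero => rw [smul_zero]
    | add u v _ _ hu hv => rw [smul_add, hu, hv, add_zero]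
    | smul r u _ hu => rw [smul_comm, hu, smul_zero]
  obtain ⟨k₂, hk₂⟩ : ∃ k : ℕ, ∀ ξ, a ^ k • ξ ∈ LinearMap.range e := by
    obtain ⟨G, hG⟩ := Module.Finite.fg_top (R := B) (M := Module.Dual B (Module.Dual B F))
    choose k hk using hcok
    refine ⟨G.sup k, fun g => ?_⟩
    have hg : g ∈ Submodule.span B (G : Set (Module.Dual B (Module.Dual B F))) := by rw [hG]; trivial
    induction hg using Submodule.span_induction with
    | mem g hg =>
      rw [← Nat.sub_add_cancel (Finset.le_sup hg), pow_add, mul_smul]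
      exact Submodule.smul_mem _ _ (hk g)
    | zero => rw [smul_zero]; exact zero_mem _
    | add u v _ _ hu hv => rw [smul_add]; exact add_mem hu hv
    | smul r u _ hu => rw [smul_comm]; exact Submodule.smul_mem _ _ hu
  choose τ hτ using hk₂
  have huniq : ∀ u v : F, e u = e v → a ^ k₁ • u = a ^ k₁ • v := fun u v h => by
    have := congrArg Subtype.val (hk₁ ⟨u - v, by rw [LinearMap.mem_ker, map_sub, h, sub_self]⟩)
    rwa [Submodule.coe_smul, smul_sub, Submodule.coe_zero, sub_eq_zero] at this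
  let σ : Module.Dual B (Module.Dual B F) →ₗ[B] F :=
    { toFun := fun ξ => a ^ k₁ • τ ξ
      map_add' := fun u v => by
        rw [← smul_add]
        exact huniq _ _ (by rw [map_add, hτ, hτ, hτ, smul_add])
      map_smul' := fun r u => by
        rw [RingHom.id_apply, smul_comm r]
        exact huniq _ _ (by rw [map_smul, hτ, hτ, smul_comm]) }
  refine ⟨k₁ + k₂, σ, fun x => ?_, fun ξ => ?_⟩
  · show a ^ k₁ • τ (e x) = _
    rw [pow_add, mul_smul]
    exact huniq _ _ (by rw [hτ, map_smul])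
  · show e (a ^ k₁ • τ ξ) = _
    rw [map_smul, hτ, smul_smul, ← pow_add]

end Main

end GrothLib.FlatOff
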