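import Groth.Agent.Lib.FlatOff.Basic
import Groth.Agent.Lib.FlatOff.FourTerm
import Groth.Agent.Lib.FreeOff.Basic
import Groth.Agent.Lib.SyntLoc.Sk
import Groth.Agent.Lib.Depth.CM
import Groth.Agent.Lib.DepthKer.Basic

/-!
# `(S₂)` and depth along `J` for modules free off `V(J)`
-/

set_option autoImplicit false
set_option linter.style.haveILetI false
universe u

open Function IsLocalRing

namespace GrothLib.FlatOff

variable {X : Type u} [CommRing X] (I : Ideal X) {K : Type u} [AddCommGroup K] [Module X K]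

/-- a factorisation of `s` through a free module descends to the quotient -/
theorem exists_factor_quot {k : ℕ} (α : K →ₗ[X] (Fin k → X)) (β : (Fin k → X) →ₗ[X] K) (s : X)
    (h : ∀ x, β (α x) = s • x) :
    ∃ (α' : (K ⧸ (I • ⊤ : Submodule X K)) →ₗ[X ⧸ I] (Fin k → X ⧸ I))
      (β' : (Fin k → X ⧸ I) →ₗ[X ⧸ I] (K ⧸ (I • ⊤ : Submodule X K))),
      ∀ z, β' (α' z) = Ideal.Quotient.mk I s • z := by
  classical
  let red : (Fin k → X) →ₗ[X] (Fin k → X ⧸ I) := (Algebra.linearMap X (X ⧸ I)).compLeft (Fin k)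
  have hle : I • (⊤ : Submodule X K) ≤ LinearMap.ker (red.comp α) := Submodule.smul_le.2 fun r hr x _ => by
    rw [LinearMap.mem_ker, LinearMap.comp_apply, map_smul]
    funext i
    show Ideal.Quotient.mk I (r • α x i) = 0
    rw [smul_eq_mul, Ideal.Quotient.eq_zero_iff_mem]
    exact I.mul_mem_right _ hr
  refine ⟨LinearMap.extendScalarsOfSurjective Ideal.Quotient.mk_surjective ((I • ⊤ : Submodule X K).liftQ _ hle),
    Fintype.linearCombination (X ⧸ I) fun i => Submodule.Quotient.mk (β (Pi.single i 1)), fun z => ?_⟩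
  obtain ⟨x, rfl⟩ := Submodule.Quotient.mk_surjective _ z
  show ∑ i, Ideal.Quotient.mk I (α x i) • (Submodule.Quotient.mk (β (Pi.single i 1)) : K ⧸ (I • ⊤ : Submodule X K)) =
    Submodule.Quotient.mk (s • x)
  have e : ∑ i, α x i • (Pi.single i (1 : X) : Fin k → X) = α x := by
    funext j
    simp [Finset.sum_apply, Pi.single_apply]
  rw [← h, ← Submodule.mkQ_apply]
  conv_rhs => rw [← e, map_sum, map_sum]
  refine Finset.sum_congr rfl fun i _ => ?_
  rw [map_smul, map_smul]
  rfl

/-- an annihilator of a module free and non-zero at `Q` is killed off `Q` -/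
theorem exists_mul_eq_zero_of_free {D : Type u} [CommRing D] {M : Type u} [AddCommGroup M] [Module D M]
    [Module.Finite D M] (Q : Ideal D) [Q.IsPrime] [Module.Free (Localization.AtPrime Q) (LocalizedModule Q.primeCompl M)]
    (hQ : (⟨Q, inferInstance⟩ : PrimeSpectrum D) ∈ Module.support D M) {c : D} (hc : c ∈ Module.annihilator D M) :
    ∃ t ∉ Q, t * c = 0 := by
  haveI : Nontrivial (LocalizedModule Q.primeCompl M) := hQ
  haveI : FaithfulSMul (Localization.AtPrime Q) (LocalizedModule Q.primeCompl M) := inferInstance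
  have h0 : algebraMap D (Localization.AtPrime Q) c = 0 := by
    refine FaithfulSMul.eq_of_smul_eq_smul (α := LocalizedModule Q.primeCompl M) fun z => ?_
    rw [zero_smul, algebraMap_smul]
    induction z using LocalizedModule.induction_on with
    | _ m t => rw [LocalizedModule.smul'_mk, Module.mem_annihilator.1 hc, LocalizedModule.zero_mk]
  obtain ⟨t, ht⟩ := (IsLocalization.map_eq_zero_iff Q.primeCompl _ _).1 h0
  exact ⟨t, t.2, ht⟩

/-- torsion-free off a prime: the support below `P` lies in `V(J)` implies `K` vanishes at `P` -/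
theorem exists_notMem_smul_eq_zero [IsNoetherianRing X] [Module.Finite X K] (J : Ideal X) (hTF : TF J K)
    (P : Ideal X) [P.IsPrime]
    (h : ∀ Q : Ideal X, Q.IsPrime → Q ≤ P → Module.annihilator X K ≤ Q → J ≤ Q) :
    ∃ t ∉ P, ∀ x : K, t • x = 0 := by
  classical
  have key : ∀ a ∈ J, ∃ t ∉ P, ∃ n : ℕ, t * a ^ n ∈ Module.annihilator X K := by
    intro a ha
    by_contra hne
    simp only [not_exists, not_and] at hne
    let S : Submonoid X := P.primeCompl ⊔ Submonoid.powers a
    have hd : Disjoint (Module.annihilator X K : Set X) (S : Set X) := by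
      rw [Set.disjoint_left]
      rintro z hz hzS
      obtain ⟨t, ht, _, ⟨n, rfl⟩, rfl⟩ := Submonoid.mem_sup.1 hzS
      exact hne t ht n hz
    obtain ⟨Q, hQ, hle, hdisj⟩ := Ideal.exists_le_prime_disjoint _ S hd
    have hQP : Q ≤ P := fun x hx => by
      by_contra hxP
      exact Set.disjoint_left.1 hdisj hx (SetLike.le_def.1 le_sup_left hxP)
    exact Set.disjoint_left.1 hdisj (h Q hQ hQP hle ha) (SetLike.le_def.1 le_sup_right ⟨1, pow_one a⟩)
  obtain ⟨G, hG⟩ := IsNoetherian.noetherian J
  choose t ht n hn using fun g : G => key g (hG ▸ Submodule.subset_span g.2)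
  refine ⟨∏ g, t g, fun hmem => ?_, fun x => hTF _ fun a ha => ?_⟩
  · obtain ⟨g, -, hg⟩ := (Ideal.IsPrime.prod_mem_iff.1 hmem)
    exact ht g hg
  · have hle : J ≤ (Submodule.span X {(∏ g, t g) • x}).annihilator.radical := by
      rw [← hG]
      refine Submodule.span_le.2 fun g hg => ?_
      refine ⟨n ⟨g, hg⟩, (Submodule.mem_annihilator_span_singleton _ _).2 ?_⟩
      obtain ⟨c, hc⟩ := Finset.dvd_prod_of_mem t (Finset.mem_univ (⟨g, hg⟩ : G))
      rw [smul_smul, hc, show g ^ n ⟨g, hg⟩ * (t ⟨g, hg⟩ * c) = c * (t ⟨g, hg⟩ * g ^ n ⟨g, hg⟩) by ring,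
        mul_smul, Module.mem_annihilator.1 (hn ⟨g, hg⟩), smul_zero]
    obtain ⟨m, hm⟩ := hle ha
    exact ⟨m, (Submodule.mem_annihilator_span_singleton _ _).1 hm⟩

/-- over a base whose only fibre is closed, `(S₂)` of the fibre gives depth `≥ 2` along `J` -/
theorem two_le_depth_of_hasSk [IsNoetherianRing X] [Module.Finite X K] (J : Ideal X)
    (hI : ∀ Q : Ideal X, Q.IsPrime → I ≤ Q) (hTF : TF J K)
    (hfree : ∀ Q : Ideal X, Q.IsPrime → ¬ J ≤ Q → ∃ (k : ℕ) (α : K →ₗ[X] (Fin k → X)) (β : (Fin k → X) →ₗ[X] K)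
      (s : X), s ∉ Q ∧ ∀ x, β (α x) = s • x)
    (hD : 2 ≤ LocCoh.idealDepth (J.map (Ideal.Quotient.mk I)) (X ⧸ I))
    (hSk : LocCoh.HasSk 2 (X ⧸ I) (K ⧸ (I • ⊤ : Submodule X K))) :
    2 ≤ LocCoh.idealDepth (J.map (Ideal.Quotient.mk I)) (K ⧸ (I • ⊤ : Submodule X K)) := by
  let D := X ⧸ I
  let M := K ⧸ (I • ⊤ : Submodule X K)
  haveI : Module.Finite D M := Module.Finite.of_restrictScalars_finite X D M
  by_contra hlt
  obtain ⟨d, hd, hd2⟩ : ∃ d : ℕ, LocCoh.idealDepth (J.map (Ideal.Quotient.mk I)) M = d ∧ d < 2 := by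
    cases hd : LocCoh.idealDepth (J.map (Ideal.Quotient.mk I)) M using ENat.recTopCoe with
    | top => exact absurd (hd ▸ le_top) hlt
    | coe d => exact ⟨d, rfl, by
        by_contra hc
        exact hlt (hd ▸ (by exact_mod_cast not_lt.1 hc))⟩
  obtain ⟨P, hP, hle⟩ := GrothLib.Depth.exists_depth_localization_le _ d hd
  let DP := Localization.AtPrime P.asIdeal
  let MP := LocalizedModule P.asIdeal.primeCompl M
  haveI : IsNoetherianRing DP := IsLocalization.isNoetherianRing P.asIdeal.primeCompl _ inferInstance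
  haveI : Module.Finite DP MP :=
    Module.Finite.of_isLocalizedModule P.asIdeal.primeCompl (LocalizedModule.mkLinearMap P.asIdeal.primeCompl M)
  have hlt2 : LocCoh.depth DP MP < 2 := lt_of_le_of_lt hle (by exact_mod_cast hd2)
  have hnt : P ∈ Module.support D M := by
    by_contra hns
    haveI : Subsingleton MP := Module.notMem_support_iff.1 hns
    refine absurd hlt2 (not_lt.2 ?_)
    rw [LocCoh.depth, LocCoh.idealDepth, if_pos (eq_top_iff.2 fun z _ => by
      rw [Subsingleton.elim z 0]; exact zero_mem _)]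
    exact le_top
  let P' : Ideal X := P.asIdeal.comap (Ideal.Quotient.mk I)
  have hann : ∀ Q : Ideal X, Q.IsPrime → Module.annihilator X K ≤ Q →
      Module.annihilator D M ≤ Q.map (Ideal.Quotient.mk I) := fun Q hQ hle c hc => by
    obtain ⟨c, rfl⟩ := Ideal.Quotient.mk_surjective c
    refine Ideal.mem_map_of_mem _ ?_
    have hmem : (⟨Q, hQ⟩ : PrimeSpectrum X) ∈ Module.support X M := by
      rw [Module.support_quotient]
      exact ⟨Module.mem_support_iff_of_finite.2 hle, hI Q hQ⟩
    refine Module.mem_support_iff_of_finite.1 hmem (Module.mem_annihilator.2 fun m => ?_)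
    exact Module.mem_annihilator.1 hc m
  by_cases hcase : ∃ Q : Ideal X, Q.IsPrime ∧ Q ≤ P' ∧ Module.annihilator X K ≤ Q ∧ ¬ J ≤ Q
  · obtain ⟨Q, hQ, hQP, hQann, hQJ⟩ := hcase
    let Qd : Ideal D := Q.map (Ideal.Quotient.mk I)
    have hQc : Qd.comap (Ideal.Quotient.mk I) = Q := by
      rw [Ideal.comap_map_of_surjective _ Ideal.Quotient.mk_surjective, ← RingHom.ker_eq_comap_bot,
        Ideal.mk_ker, sup_eq_left]
      exact hI Q hQ
    haveI : Qd.IsPrime := Ideal.map_isPrime_of_surjective Ideal.Quotient.mk_surjective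
      (by rw [Ideal.mk_ker]; exact hI Q hQ)
    have hQdP : Qd ≤ P.asIdeal := Ideal.map_le_iff_le_comap.2 hQP
    obtain ⟨k, α, β, s, hs, hαβ⟩ := hfree Q hQ hQJ
    obtain ⟨α', β', h'⟩ := exists_factor_quot I α β s hαβ
    haveI := GrothLib.FreeOff.free_localized_of_factor Qd
      ⟨Ideal.Quotient.mk I s, fun h => hs (hQc ▸ (Ideal.mem_comap.2 h))⟩ α' β' h'
    have hQsupp : (⟨Qd, inferInstance⟩ : PrimeSpectrum D) ∈ Module.support D M :=
      Module.mem_support_iff_of_finite.2 (hann Q hQ hQann)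
    haveI : (Qd.map (algebraMap D DP)).IsPrime :=
      IsLocalization.isPrime_of_isPrime_disjoint P.asIdeal.primeCompl DP _ inferInstance
        (Set.disjoint_left.2 fun x hx hxQ => hx (hQdP hxQ))
    obtain ⟨p₀, hp₀, hp₀Q⟩ := Ideal.exists_minimalPrimes_le
      (bot_le : (⊥ : Ideal DP) ≤ Qd.map (algebraMap D DP))
    have hAss : p₀ ∈ associatedPrimes DP DP := by
      refine Module.associatedPrimes.minimalPrimes_annihilator_subset_associatedPrimes DP DP ?_
      rw [Module.annihilator_eq_bot.2 (inferInstance : FaithfulSMul DP DP)]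
      exact hp₀
    have hle0 : Module.annihilator DP MP ≤ p₀ := by
      intro x hx
      obtain ⟨c, t, rfl⟩ := IsLocalization.exists_mk'_eq P.asIdeal.primeCompl x
      rw [IsLocalization.mk'_eq_mul_mk'_one]
      refine p₀.mul_mem_right _ ?_
      have hc : algebraMap D DP c ∈ Module.annihilator DP MP := by
        rw [← IsLocalization.mk'_spec DP c t, mul_comm]
        exact Ideal.mul_mem_left _ _ hx
      obtain ⟨G, hG⟩ := (Module.Finite.fg_top : (⊤ : Submodule D M).FG)
      have hex : ∀ g : M, ∃ u : P.asIdeal.primeCompl, (u : D) • c • g = 0 := fun g => by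
        have h1 := Module.mem_annihilator.1 hc (LocalizedModule.mkLinearMap P.asIdeal.primeCompl M g)
        rw [algebraMap_smul, ← map_smul] at h1
        obtain ⟨u, hu⟩ := (IsLocalizedModule.eq_zero_iff P.asIdeal.primeCompl
          (LocalizedModule.mkLinearMap P.asIdeal.primeCompl M)).1 h1
        exact ⟨u, hu⟩
      choose u hu using hex
      have hcm : (∏ g ∈ G, (u g : D)) * c ∈ Module.annihilator D M := Module.mem_annihilator.2 fun m => by
        have hm : m ∈ Submodule.span D (G : Set M) := by rw [hG]; trivial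
        induction hm using Submodule.span_induction with
        | mem g hg =>
          obtain ⟨e, he⟩ := Finset.dvd_prod_of_mem (fun g => (u g : D)) (Finset.mem_coe.1 hg)
          rw [he, show (u g : D) * e * c = e * ((u g : D) * c) by ring, mul_smul, mul_smul, hu, smul_zero]
        | zero => rw [smul_zero]
        | add a b _ _ ha hb => rw [smul_add, ha, hb, add_zero]
        | smul r a _ ha => rw [smul_comm, ha, smul_zero]
      obtain ⟨w, hw, hwc⟩ := exists_mul_eq_zero_of_free Qd hQsupp hcm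
      haveI := hp₀.isPrime
      have h0 : algebraMap D DP (w * ((∏ g ∈ G, (u g : D)) * c)) ∈ p₀ := by rw [hwc, map_zero]; exact zero_mem _
      rw [map_mul, map_mul] at h0
      rcases Ideal.IsPrime.mem_or_mem inferInstance h0 with h | h
      · exact absurd ((IsLocalization.comap_map_of_isPrime_disjoint P.asIdeal.primeCompl DP ‹Qd.IsPrime›
          (Set.disjoint_left.2 fun x hx hxQ => hx (hQdP hxQ))).le (hp₀Q h)) hw
      · rcases Ideal.IsPrime.mem_or_mem inferInstance h with h | h
        · exact absurd (Ideal.eq_top_of_isUnit_mem _ h (IsLocalization.map_units DP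
            (⟨∏ g ∈ G, (u g : D), Submonoid.prod_mem _ fun g _ => (u g).2⟩ : P.asIdeal.primeCompl))) Ideal.IsPrime.ne_top'
        · exact h
    haveI := hp₀.isPrime
    have hdimM : ringKrullDim (DP ⧸ p₀) ≤ Module.supportDim DP MP := by
      rw [Module.supportDim_eq_ringKrullDim_quotient_annihilator]
      exact ringKrullDim_le_of_surjective (Ideal.Quotient.factor hle0) (Ideal.Quotient.factor_surjective hle0)
    have hDP : 2 ≤ LocCoh.depth DP DP := by
      refine (hD.trans (GrothLib.Depth.idealDepth_le_localization (M := D) _ P.asIdeal hP)).trans (le_of_eq ?_)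
      haveI : Module.Finite DP (LocalizedModule P.asIdeal.primeCompl D) :=
        Module.Finite.of_isLocalizedModule P.asIdeal.primeCompl (LocalizedModule.mkLinearMap P.asIdeal.primeCompl D)
      exact GrothLib.Depth.idealDepth_eq_of_equiv _
        ((LocalizedModule.equivTensorProduct P.asIdeal.primeCompl D).trans (TensorProduct.AlgebraTensorModule.rid D DP DP))
    have h2 : ((2 : ℕ∞) : WithBot ℕ∞) ≤ Module.supportDim DP MP :=
      ((WithBot.coe_le_coe.2 hDP).trans (GrothLib.Depth.depth_le_dim_quotient hAss)).trans hdimM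
    have := hSk P.asIdeal
    rw [min_eq_left (show ((2 : ℕ) : WithBot ℕ∞) ≤ _ from h2)] at this
    exact absurd hlt2 (not_lt.2 (WithBot.coe_le_coe.1 this))
  · obtain ⟨t, ht, htK⟩ := exists_notMem_smul_eq_zero J hTF P'
      fun Q hQ hQP hann => by_contra fun hJ => hcase ⟨Q, hQ, hQP, hann, hJ⟩
    refine ht (Module.mem_support_iff_of_finite.1 hnt (Module.mem_annihilator.2 fun m => ?_))
    obtain ⟨x, rfl⟩ := Submodule.Quotient.mk_surjective _ m
    show Submodule.Quotient.mk (t • x) = 0
    rw [htK, Submodule.Quotient.mk_zero]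

/-- depth `≥ 2` along `J` and freeness off `V(J)` give `(S₂)` -/
theorem hasSk_two_of_depth [IsNoetherianRing X] [Module.Finite X K] (J : Ideal X)
    (hfree : ∀ Q : Ideal X, Q.IsPrime → ¬ J ≤ Q → ∃ (k : ℕ) (α : K →ₗ[X] (Fin k → X)) (β : (Fin k → X) →ₗ[X] K)
      (s : X), s ∉ Q ∧ ∀ x, β (α x) = s • x)
    (hD : LocCoh.HasSk 2 (X ⧸ I) (X ⧸ I))
    (hM : 2 ≤ LocCoh.idealDepth (J.map (Ideal.Quotient.mk I)) (K ⧸ (I • ⊤ : Submodule X K))) :
    LocCoh.HasSk 2 (X ⧸ I) (K ⧸ (I • ⊤ : Submodule X K)) := by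
  let D := X ⧸ I
  let M := K ⧸ (I • ⊤ : Submodule X K)
  haveI : Module.Finite D M := Module.Finite.of_restrictScalars_finite X D M
  intro P _
  let DP := Localization.AtPrime P
  let MP := LocalizedModule P.primeCompl M
  haveI : IsNoetherianRing DP := IsLocalization.isNoetherianRing P.primeCompl _ inferInstance
  haveI : Module.Finite DP MP :=
    Module.Finite.of_isLocalizedModule P.primeCompl (LocalizedModule.mkLinearMap P.primeCompl M)
  by_cases hJ : J.map (Ideal.Quotient.mk I) ≤ P
  · exact (min_le_left _ _).trans (WithBot.coe_le_coe.2 (hM.trans (GrothLib.Depth.idealDepth_le_localization _ P hJ)))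
  have hJ' : ¬ J ≤ P.comap (Ideal.Quotient.mk I) := fun h => hJ (Ideal.map_le_iff_le_comap.2 h)
  obtain ⟨k, α, β, s, hs, hαβ⟩ := hfree _ (Ideal.comap_isPrime _ _) hJ'
  obtain ⟨α', β', h'⟩ := exists_factor_quot I α β s hαβ
  haveI : Module.Free DP MP := GrothLib.FreeOff.free_localized_of_factor P ⟨_, hs⟩ α' β' h'
  rcases subsingleton_or_nontrivial MP with hsub | hnt
  · rw [(Module.supportDim_eq_bot_iff_subsingleton DP MP).2 hsub]
    exact (min_le_right _ _).trans bot_le
  rw [Module.supportDim_eq_ringKrullDim_quotient_annihilator,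
    Module.annihilator_eq_bot.2 (inferInstance : FaithfulSMul DP MP),
    ringKrullDim_eq_of_ringEquiv (RingEquiv.quotientBot DP)]
  refine ((GrothLib.SyntLoc.hasSk_iff_skBound D).1 hD P).trans (WithBot.coe_le_coe.2 ?_)
  let e := (Module.Free.chooseBasis DP MP).equivFun
  refine GrothLib.Depth.le_of_forall_coe_le fun n hn => ?_
  let m := Fintype.card (Module.Free.ChooseBasisIndex DP MP)
  rw [LocCoh.depth, GrothLib.Depth.idealDepth_eq_of_equiv (R := DP) (N := Fin m → DP) _
    (e.trans (LinearEquiv.funCongrLeft DP DP (Fintype.equivFin _).symm))]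
  exact GrothLib.DepthKer.le_idealDepth_pi _ _ hn m

end GrothLib.FlatOff
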