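import Groth.Agent.Lib.FreeOff.Basic

/-!
# Homotopies after inverting an element off which the cokernel is free
-/

set_option autoImplicit false
universe u

open Function

namespace GrothLib.FlatOff

/-- if `coker h` is free at all primes not containing `a`, then `0 → F → Bⁿ → Bᵐ` is split up to a power of `a` -/
theorem exists_homotopy {B : Type u} [CommRing B] [IsNoetherianRing B] {F : Type u} [AddCommGroup F] [Module B F]
    {N M : ℕ} (g : F →ₗ[B] (Fin N → B)) (h : (Fin N → B) →ₗ[B] (Fin M → B)) (hg : Injective g)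
    (hex : Exact g h) (a : B)
    (hfree : ∀ q : PrimeSpectrum B, a ∉ q.asIdeal → Module.Free (Localization.AtPrime q.asIdeal)
      (LocalizedModule q.asIdeal.primeCompl ((Fin M → B) ⧸ LinearMap.range h))) :
    ∃ (k : ℕ) (t : (Fin N → B) →ₗ[B] F) (s : (Fin M → B) →ₗ[B] (Fin N → B)),
      (∀ x, t (g x) = a ^ k • x) ∧ ∀ y, g (t y) + s (h y) = a ^ k • y := by
  classical
  let G := (Fin M → B) ⧸ LinearMap.range h
  let v : (Fin M → B) →ₗ[B] G := (LinearMap.range h).mkQ
  let I : Ideal B :=
    { carrier := {c | ∃ sec : G →ₗ[B] (Fin M → B), ∀ z, v (sec z) = c • z}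
      zero_mem' := ⟨0, fun z => by rw [LinearMap.zero_apply, map_zero, zero_smul]⟩
      add_mem' := fun {c d} ⟨s₁, h₁⟩ ⟨s₂, h₂⟩ => ⟨s₁ + s₂, fun z => by
        rw [LinearMap.add_apply, map_add, h₁, h₂, add_smul]⟩
      smul_mem' := fun r c ⟨s₁, h₁⟩ => ⟨r • s₁, fun z => by
        rw [LinearMap.smul_apply, map_smul, h₁, smul_eq_mul, mul_smul]⟩ }
  have ha : a ∈ I.radical := by
    rw [Ideal.radical_eq_sInf, Submodule.mem_sInf]
    intro q hq
    by_contra haq
    haveI := hq.2
    haveI := hfree ⟨q, hq.2⟩ haq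
    obtain ⟨k, α, β, s, hs⟩ := GrothLib.FreeOff.exists_factor_of_free (B := B) G q
    obtain ⟨β', hβ'⟩ := Module.projective_lifting_property v β (Submodule.mkQ_surjective _)
    exact s.2 (hq.1 ⟨β'.comp α, fun z => (LinearMap.congr_fun hβ' (α z)).trans (hs z)⟩)
  obtain ⟨k, sec, hsec⟩ := ha
  let π : (Fin M → B) →ₗ[B] LinearMap.range h :=
    (a ^ k • LinearMap.id - sec.comp v).codRestrict _ fun y => by
      refine (Submodule.Quotient.mk_eq_zero _).1 (show v _ = 0 from ?_)
      rw [LinearMap.sub_apply, map_sub, LinearMap.smul_apply, LinearMap.id_apply, map_smul,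
        LinearMap.comp_apply, hsec, sub_self]
  obtain ⟨s, hs⟩ := Module.projective_lifting_property h.rangeRestrict π h.surjective_rangeRestrict
  have hs' : ∀ y, h (s y) = a ^ k • y - sec (v y) := fun y =>
    congrArg Subtype.val (LinearMap.congr_fun hs y)
  let e : F ≃ₗ[B] LinearMap.range g := LinearEquiv.ofInjective g hg
  let ψ : (Fin N → B) →ₗ[B] LinearMap.range g := (a ^ k • LinearMap.id - s.comp h).codRestrict _ fun y => by
    refine (hex _).1 ?_
    rw [LinearMap.sub_apply, map_sub, LinearMap.smul_apply, LinearMap.id_apply, map_smul,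
      LinearMap.comp_apply, hs', show v (h y) = 0 from (Submodule.Quotient.mk_eq_zero _).2 ⟨y, rfl⟩,
      map_zero, sub_zero, sub_self]
  have ht : ∀ y, g (e.symm (ψ y)) = a ^ k • y - s (h y) := fun y => by
    show ((e (e.symm (ψ y)) : LinearMap.range g) : Fin N → B) = _
    rw [e.apply_symm_apply]
    rfl
  refine ⟨k, e.symm.toLinearMap.comp ψ, s, fun x => hg ?_, fun y => ?_⟩
  · show g (e.symm (ψ (g x))) = _
    rw [ht, hex.apply_apply_eq_zero, map_zero, sub_zero, map_smul]
  · show g (e.symm (ψ y)) + _ = _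
    rw [ht, sub_add_cancel]

end GrothLib.FlatOff
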