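import Mathlib
import Groth.Prelude.Def_EGA4b
import Groth.Prelude.Def_FlatCA
import Groth.Agent.S18708
import Groth.Agent.Lib.FreeOff.Basic

/-!
# The key proposition at a prime
-/

set_option autoImplicit false
universe u

open TensorProduct Function IsLocalRing

namespace GrothLib.FlatOff

theorem idealDepth_fibMod_eq {A B : Type u} [CommRing A] [CommRing B] [Algebra A B] [IsNoetherianRing B]
    (q : Ideal B) [q.IsPrime] (N : Type u) [AddCommGroup N] [Module B N] [Module.Finite B N]
    [Algebra (Localization.AtPrime (q.comap (algebraMap A B))) (Localization.AtPrime q)]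
    [IsScalarTower A (Localization.AtPrime (q.comap (algebraMap A B))) (Localization.AtPrime q)]
    [IsNoetherianRing (Localization.AtPrime q)] (J : Ideal (Localization.AtPrime q)) :
    LocCoh.idealDepth J (EGA4.FibMod (Localization.AtPrime (q.comap (algebraMap A B))) (Localization.AtPrime q)
        (LocalizedModule q.primeCompl N)) =
      LocCoh.idealDepth J (EGA4.FibLocMod A B q N) := by
  haveI : Module.Finite (Localization.AtPrime q) (LocalizedModule q.primeCompl N) :=
    Module.Finite.of_isLocalizedModule q.primeCompl (LocalizedModule.mkLinearMap q.primeCompl N)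
  refine GrothLib.Depth.idealDepth_eq_of_equiv J (Submodule.quotEquivOfEq _ _ ?_)
  rw [EGA4.mB, ← Localization.AtPrime.map_eq_maximalIdeal (I := q.comap (algebraMap A B)), Ideal.map_map,
    ← IsScalarTower.algebraMap_eq]

/-- flatness at a prime passes to the localisation of a localisation -/
theorem flat_localized_localized {A B : Type u} [CommRing A] [CommRing B] [Algebra A B]
    (q : Ideal B) [q.IsPrime] (Q : Ideal (Localization.AtPrime q)) [Q.IsPrime]
    (G : Type u) [AddCommGroup G] [Module B G] [Module A G] [IsScalarTower A B G]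
    (h : FlatCA.FlatAt A (Q.comap (algebraMap B (Localization.AtPrime q))) G) :
    Module.Flat A (LocalizedModule Q.primeCompl (LocalizedModule q.primeCompl G)) := by
  let X := Localization.AtPrime q
  let r := Q.comap (algebraMap B X)
  let G₀ := LocalizedModule q.primeCompl G
  haveI : Module.Flat A (LocalizedModule r.primeCompl G) := h
  haveI : IsScalarTower A X G₀ := IsScalarTower.of_algebraMap_smul fun a x => by
    rw [IsScalarTower.algebraMap_apply A B X, algebraMap_smul, algebraMap_smul]
  rw [Module.Flat.iff_lTensor_preserves_injective_linearMap]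
  intro N N' _ _ _ _ g hg
  refine GrothLib.FibreFlat.lTensor_injective_of_isLocalizedModule Q.primeCompl
    (LocalizedModule.mkLinearMap Q.primeCompl G₀) g fun x hx => ?_
  let ℓ := LocalizedModule.mkLinearMap q.primeCompl G
  let L : G ⊗[A] N →ₗ[B] G₀ ⊗[A] N := AlgebraTensorModule.rTensor A N ℓ
  let L' : G ⊗[A] N' →ₗ[B] G₀ ⊗[A] N' := AlgebraTensorModule.rTensor A N' ℓ
  obtain ⟨⟨z, s⟩, hzs⟩ := IsLocalizedModule.surj q.primeCompl L x
  have hcomm : ∀ w : G ⊗[A] N, g.lTensor G₀ (L w) = L' (g.lTensor G w) := fun w => by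
    induction w using TensorProduct.induction_on with
    | zero => simp
    | add a b ha hb => simp only [map_add, ha, hb]
    | tmul a b => simp [L, L']
  have h0 : L' (g.lTensor G z) = 0 := by
    rw [← hcomm, ← hzs]
    show (AlgebraTensorModule.lTensor B G₀ g) ((s : B) • x) = 0
    rw [map_smul]
    show (s : B) • g.lTensor G₀ x = 0
    rw [hx, smul_zero]
  obtain ⟨t, ht⟩ := (IsLocalizedModule.eq_zero_iff q.primeCompl L').1 h0
  let ℓr := LocalizedModule.mkLinearMap r.primeCompl G
  let Lr : G ⊗[A] N →ₗ[B] LocalizedModule r.primeCompl G ⊗[A] N := AlgebraTensorModule.rTensor A N ℓr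
  let Lr' : G ⊗[A] N' →ₗ[B] LocalizedModule r.primeCompl G ⊗[A] N' := AlgebraTensorModule.rTensor A N' ℓr
  have hcommr : ∀ w : G ⊗[A] N, g.lTensor (LocalizedModule r.primeCompl G) (Lr w) = Lr' (g.lTensor G w) :=
    fun w => by
      induction w using TensorProduct.induction_on with
      | zero => simp
      | add a b ha hb => simp only [map_add, ha, hb]
      | tmul a b => simp [Lr, Lr']
  have hz : g.lTensor G ((t : B) • z) = 0 :=
    ((AlgebraTensorModule.lTensor B G g).map_smul (t : B) z).trans ht
  have hLr : Lr ((t : B) • z) = 0 := Module.Flat.lTensor_preserves_injective_linearMap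
    (M := LocalizedModule r.primeCompl G) g hg (by rw [hcommr, hz, map_zero, map_zero])
  obtain ⟨c, hc⟩ := (IsLocalizedModule.eq_zero_iff r.primeCompl Lr).1 hLr
  refine ⟨algebraMap B X ((c : B) * t * s), ?_, ?_⟩
  · show algebraMap B X ((c : B) * t * s) ∉ Q
    have hs : IsUnit (algebraMap B X ((t : B) * s)) :=
      IsLocalization.map_units X (t * s)
    intro hmem
    rw [mul_assoc, map_mul] at hmem
    rcases Ideal.IsPrime.mem_or_mem ‹Q.IsPrime› hmem with h | h
    · exact c.2 h
    · exact Ideal.IsPrime.ne_top ‹Q.IsPrime› (Ideal.eq_top_of_isUnit_mem _ h hs)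
  · have : L ((c : B) • (t : B) • z) = ((c : B) * t * s) • x := by
      rw [map_smul, map_smul, ← hzs, Submonoid.smul_def, smul_smul, smul_smul, mul_assoc]
    rw [algebraMap_smul, ← this, show (c : B) • (t : B) • z = 0 from hc, map_zero]

variable {A B : Type u} [CommRing A] [CommRing B] [IsNoetherianRing A] [IsNoetherianRing B] [Algebra A B]
  (J : Ideal B)
  {F E0 E1 G : Type u}
  [AddCommGroup F] [Module B F] [Module A F] [IsScalarTower A B F] [Module.Finite B F]
  [AddCommGroup E0] [Module B E0] [Module A E0] [IsScalarTower A B E0] [Module.Finite B E0] [Module.Flat A E0]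
  [AddCommGroup E1] [Module B E1] [Module A E1] [IsScalarTower A B E1] [Module.Finite B E1] [Module.Flat A E1]
  [AddCommGroup G] [Module B G] [Module A G] [IsScalarTower A B G] [Module.Finite B G]
  (f : F →ₗ[B] E0) (u : E0 →ₗ[B] E1) (v : E1 →ₗ[B] G)

theorem key_at_prime_of_flatAt (hf : Injective f) (hfu : Function.Exact f u) (huv : Function.Exact u v) (hv : Surjective v)
    (hG : ∀ r : PrimeSpectrum B, ¬ J ≤ r.asIdeal → FlatCA.FlatAt A r.asIdeal G)
    (q : Ideal B) [q.IsPrime]
    (h0 : 2 ≤ LocCoh.idealDepth (J.map (algebraMap B (Localization.AtPrime q))) (EGA4.FibLocMod A B q E0))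
    (h1 : 1 ≤ LocCoh.idealDepth (J.map (algebraMap B (Localization.AtPrime q))) (EGA4.FibLocMod A B q E1)) :
    FlatCA.FlatAt A q G ↔ FlatCA.FlatAt A q F ∧
      2 ≤ LocCoh.idealDepth (J.map (algebraMap B (EGA4.FibLocRing A B q))) (EGA4.FibLocMod A B q F) := by
  let p := q.comap (algebraMap A B)
  let A₀ := Localization.AtPrime p
  let X := Localization.AtPrime q
  haveI : IsNoetherianRing A₀ := IsLocalization.isNoetherianRing p.primeCompl _ inferInstance
  haveI : IsNoetherianRing X := IsLocalization.isNoetherianRing q.primeCompl _ inferInstance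
  let φ : A₀ →+* X := Localization.localRingHom p q (algebraMap A B) rfl
  letI : Algebra A₀ X := φ.toAlgebra
  haveI : IsLocalHom (algebraMap A₀ X) := Localization.isLocalHom_localRingHom p q (algebraMap A B) rfl
  haveI : IsScalarTower A A₀ X := IsScalarTower.of_algebraMap_eq fun a => by
    rw [IsScalarTower.algebraMap_apply A B X, RingHom.algebraMap_toAlgebra, Localization.localRingHom_to_map]
  have tower : ∀ (N : Type u) [AddCommGroup N] [Module B N] [Module A N] [IsScalarTower A B N],
      letI : Module A₀ (LocalizedModule q.primeCompl N) := Module.compHom _ φ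
      IsScalarTower A A₀ (LocalizedModule q.primeCompl N) := fun N _ _ _ _ => by
    letI : Module A₀ (LocalizedModule q.primeCompl N) := Module.compHom _ φ
    refine IsScalarTower.of_algebraMap_smul fun a x => ?_
    show φ (algebraMap A A₀ a) • x = a • x
    rw [show φ (algebraMap A A₀ a) = algebraMap A X a from (IsScalarTower.algebraMap_apply A A₀ X a).symm,
      IsScalarTower.algebraMap_apply A B X, algebraMap_smul, algebraMap_smul]
  let F₀ := LocalizedModule q.primeCompl F
  let E0₀ := LocalizedModule q.primeCompl E0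
  let E1₀ := LocalizedModule q.primeCompl E1
  let G₀ := LocalizedModule q.primeCompl G
  letI : Module A₀ F₀ := Module.compHom _ φ
  letI : Module A₀ E0₀ := Module.compHom _ φ
  letI : Module A₀ E1₀ := Module.compHom _ φ
  letI : Module A₀ G₀ := Module.compHom _ φ
  haveI : IsScalarTower A A₀ F₀ := tower F
  haveI : IsScalarTower A A₀ E0₀ := tower E0
  haveI : IsScalarTower A A₀ E1₀ := tower E1
  haveI : IsScalarTower A A₀ G₀ := tower G
  haveI : IsScalarTower A₀ X F₀ := IsScalarTower.of_algebraMap_smul fun _ _ => rfl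
  haveI : IsScalarTower A₀ X E0₀ := IsScalarTower.of_algebraMap_smul fun _ _ => rfl
  haveI : IsScalarTower A₀ X E1₀ := IsScalarTower.of_algebraMap_smul fun _ _ => rfl
  haveI : IsScalarTower A₀ X G₀ := IsScalarTower.of_algebraMap_smul fun _ _ => rfl
  let ℓF := LocalizedModule.mkLinearMap q.primeCompl F
  let ℓ0 := LocalizedModule.mkLinearMap q.primeCompl E0
  let ℓ1 := LocalizedModule.mkLinearMap q.primeCompl E1
  let ℓG := LocalizedModule.mkLinearMap q.primeCompl G
  haveI : Module.Finite X F₀ := Module.Finite.of_isLocalizedModule q.primeCompl ℓF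
  haveI : Module.Finite X E0₀ := Module.Finite.of_isLocalizedModule q.primeCompl ℓ0
  haveI : Module.Finite X E1₀ := Module.Finite.of_isLocalizedModule q.primeCompl ℓ1
  haveI : Module.Finite X G₀ := Module.Finite.of_isLocalizedModule q.primeCompl ℓG
  haveI : Module.Flat A E0₀ := GrothLib.FlatModel.flat_localizedModule q.primeCompl
  haveI : Module.Flat A E1₀ := GrothLib.FlatModel.flat_localizedModule q.primeCompl
  haveI : Module.Flat A₀ E0₀ := (Module.flat_iff_of_isLocalization A₀ p.primeCompl E0₀).2 ‹Module.Flat A E0₀›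
  haveI : Module.Flat A₀ E1₀ := (Module.flat_iff_of_isLocalization A₀ p.primeCompl E1₀).2 ‹Module.Flat A E1₀›
  let f₀ := IsLocalizedModule.mapExtendScalars q.primeCompl ℓF ℓ0 X f
  let u₀ := IsLocalizedModule.mapExtendScalars q.primeCompl ℓ0 ℓ1 X u
  let v₀ := IsLocalizedModule.mapExtendScalars q.primeCompl ℓ1 ℓG X v
  have hGU : ∀ Q : PrimeSpectrum X, ¬ J.map (algebraMap B X) ≤ Q.asIdeal →
      FlatCA.FlatAt A₀ Q.asIdeal G₀ := by
    intro Q hQ
    let r : PrimeSpectrum B := ⟨Q.asIdeal.comap (algebraMap B X), inferInstance⟩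
    have hr := hG r fun h => hQ (Ideal.map_le_iff_le_comap.2 h)
    show Module.Flat A₀ (LocalizedModule Q.asIdeal.primeCompl G₀)
    let GQ := LocalizedModule Q.asIdeal.primeCompl G₀
    haveI : Module.Flat A GQ := flat_localized_localized q Q.asIdeal G hr
    exact (Module.flat_iff_of_isLocalization A₀ p.primeCompl GQ).2 ‹Module.Flat A GQ›
  have key := Groth.Agent.S18708.result A₀ X (J.map (algebraMap B X)) F₀ E0₀ E1₀ G₀ f₀ u₀ v₀
    (IsLocalizedModule.map_injective q.primeCompl ℓF ℓ0 f hf)
    (IsLocalizedModule.map_exact q.primeCompl ℓF ℓ0 ℓ1 f u hfu)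
    (IsLocalizedModule.map_exact q.primeCompl ℓ0 ℓ1 ℓG u v huv)
    (IsLocalizedModule.map_surjective q.primeCompl ℓ1 ℓG v hv) hGU
    (by rw [idealDepth_fibMod_eq]; exact h0) (by rw [idealDepth_fibMod_eq]; exact h1)
  have hJ : LocCoh.idealDepth (J.map (algebraMap B (EGA4.FibLocRing A B q))) (EGA4.FibLocMod A B q F) =
      LocCoh.idealDepth (J.map (algebraMap B X)) (EGA4.FibLocMod A B q F) := by
    rw [IsScalarTower.algebraMap_eq B X (EGA4.FibLocRing A B q), ← Ideal.map_map,
      GrothLib.Depth.idealDepth_map_eq]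
  rw [hJ, ← idealDepth_fibMod_eq]
  show Module.Flat A G₀ ↔ Module.Flat A F₀ ∧ _
  rw [← Module.flat_iff_of_isLocalization A₀ p.primeCompl G₀, ← Module.flat_iff_of_isLocalization A₀ p.primeCompl F₀]
  exact ⟨fun h => ⟨key.2.2 h, key.1.2 h⟩, fun h => key.1.1 h.2⟩

theorem key_at_prime [Module.Flat A B] (hf : Injective f) (hfu : Function.Exact f u) (huv : Function.Exact u v)
    (hv : Surjective v)
    (hG : ∀ r : PrimeSpectrum B, ¬ J ≤ r.asIdeal → ∃ (k : ℕ) (α : G →ₗ[B] (Fin k → B))
      (β : (Fin k → B) →ₗ[B] G) (s : r.asIdeal.primeCompl), ∀ x, β (α x) = (s : B) • x)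
    (q : Ideal B) [q.IsPrime]
    (h0 : 2 ≤ LocCoh.idealDepth (J.map (algebraMap B (Localization.AtPrime q))) (EGA4.FibLocMod A B q E0))
    (h1 : 1 ≤ LocCoh.idealDepth (J.map (algebraMap B (Localization.AtPrime q))) (EGA4.FibLocMod A B q E1)) :
    FlatCA.FlatAt A q G ↔ FlatCA.FlatAt A q F ∧
      2 ≤ LocCoh.idealDepth (J.map (algebraMap B (EGA4.FibLocRing A B q))) (EGA4.FibLocMod A B q F) := by
  refine key_at_prime_of_flatAt J f u v hf hfu huv hv (fun r hr => ?_) q h0 h1
  obtain ⟨k, α, β, s, hαβ⟩ := hG r hr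
  haveI := GrothLib.FreeOff.free_localized_of_factor r.asIdeal s α β hαβ
  haveI : Module.Flat A (Localization.AtPrime r.asIdeal) := Module.Flat.trans A B _
  haveI : IsScalarTower A (Localization.AtPrime r.asIdeal) (LocalizedModule r.asIdeal.primeCompl G) :=
    IsScalarTower.of_algebraMap_smul fun a x => by
      rw [IsScalarTower.algebraMap_apply A B (Localization.AtPrime r.asIdeal), algebraMap_smul, algebraMap_smul]
  exact Module.Flat.trans A (Localization.AtPrime r.asIdeal) _

end GrothLib.FlatOff
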