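import Groth.Agent.Lib.FlatOff.DoubleDual
import Groth.Agent.Lib.FlatOff.FourTerm
import Groth.Agent.Lib.DepthKer.Basic

/-!
# Maps invertible off `V(J)` between modules of depth `≥ 2`; duals localised
-/

set_option autoImplicit false
universe u

open Function

namespace GrothLib.FlatOff

/-- a map invertible up to powers of elements of `I` is bijective if the depths allow it -/
theorem bijective_of_pseudoInverse {R : Type u} [CommRing R] [IsNoetherianRing R] (I : Ideal R)
    {P Q : Type u} [AddCommGroup P] [Module R P] [Module.Finite R P] [AddCommGroup Q] [Module R Q]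
    [Module.Finite R Q] (e : P →ₗ[R] Q) (S : Set R) (hI : I ≤ Ideal.span S)
    (hinv : ∀ a ∈ S, ∃ (k : ℕ) (σ : Q →ₗ[R] P), (∀ x, σ (e x) = a ^ k • x) ∧ ∀ y, e (σ y) = a ^ k • y)
    (hP : 2 ≤ LocCoh.idealDepth I P) (hQ : 1 ≤ LocCoh.idealDepth I Q) : Bijective e := by
  have tors : ∀ {N : Type u} [AddCommGroup N] [Module R N] (z : N),
      (∀ a ∈ S, ∃ n : ℕ, a ^ n • z = 0) → ∀ x ∈ I, ∃ n : ℕ, x ^ n • z = 0 := fun {N} _ _ z hz x hx => by
    have hle : Ideal.span S ≤ (Submodule.span R {z}).annihilator.radical := Ideal.span_le.2 fun a ha => by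
      obtain ⟨n, hn⟩ := hz a ha
      exact ⟨n, (Submodule.mem_annihilator_span_singleton z _).2 hn⟩
    obtain ⟨n, hn⟩ := hle (hI hx)
    exact ⟨n, (Submodule.mem_annihilator_span_singleton z _).1 hn⟩
  have hinj : Injective e := (injective_iff_map_eq_zero e).2 fun x hx =>
    tf_of_idealDepth ((one_le_two).trans hP) x (tors x fun a ha => by
      obtain ⟨k, σ, h1, -⟩ := hinv a ha
      exact ⟨k, by rw [← h1, hx, map_zero]⟩)
  refine ⟨hinj, fun y => (Submodule.Quotient.mk_eq_zero (LinearMap.range e)).1 ?_⟩
  have hT : (1 : ℕ∞) ≤ LocCoh.idealDepth I (Q ⧸ LinearMap.range e) :=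
    le_idealDepth_right (J := I) e (LinearMap.range e).mkQ hinj (Submodule.mkQ_surjective _)
      (LinearMap.exact_map_mkQ_range e) 1 (by simpa using hP) (by simpa using hQ)
  refine tf_of_idealDepth hT _ (tors _ fun a ha => ?_)
  obtain ⟨k, σ, -, h2⟩ := hinv a ha
  refine ⟨k, ?_⟩
  rw [← Submodule.Quotient.mk_smul, Submodule.Quotient.mk_eq_zero]
  exact ⟨σ y, h2 y⟩

variable {B : Type u} [CommRing B] [IsNoetherianRing B] (q : Ideal B) [q.IsPrime]

/-- pseudo-inverses localise -/
theorem pseudoInverse_localized {P Q : Type u} [AddCommGroup P] [Module B P] [AddCommGroup Q] [Module B Q]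
    (e : P →ₗ[B] Q) (σ : Q →ₗ[B] P) (c : B) (h1 : ∀ x, σ (e x) = c • x) :
    ∀ z, LocalizedModule.map q.primeCompl σ (LocalizedModule.map q.primeCompl e z) =
      algebraMap B (Localization.AtPrime q) c • z := by
  intro z
  induction z using LocalizedModule.induction_on with
  | _ m s =>
    rw [LocalizedModule.map_mk, LocalizedModule.map_mk, h1, algebraMap_smul, LocalizedModule.smul'_mk]

theorem bijective_localized (J : Ideal B) {P Q : Type u} [AddCommGroup P] [Module B P] [Module.Finite B P]
    [AddCommGroup Q] [Module B Q] [Module.Finite B Q] (e : P →ₗ[B] Q)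
    (hinv : ∀ a ∈ J, ∃ (k : ℕ) (σ : Q →ₗ[B] P), (∀ x, σ (e x) = a ^ k • x) ∧ ∀ y, e (σ y) = a ^ k • y)
    (hP : 2 ≤ LocCoh.idealDepth (J.map (algebraMap B (Localization.AtPrime q))) (LocalizedModule q.primeCompl P))
    (hQ : 1 ≤ LocCoh.idealDepth (J.map (algebraMap B (Localization.AtPrime q))) (LocalizedModule q.primeCompl Q)) :
    Bijective (LocalizedModule.map q.primeCompl e) := by
  haveI : IsNoetherianRing (Localization.AtPrime q) := IsLocalization.isNoetherianRing q.primeCompl _ inferInstance
  haveI : Module.Finite (Localization.AtPrime q) (LocalizedModule q.primeCompl P) :=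
    Module.Finite.of_isLocalizedModule q.primeCompl (LocalizedModule.mkLinearMap q.primeCompl P)
  haveI : Module.Finite (Localization.AtPrime q) (LocalizedModule q.primeCompl Q) :=
    Module.Finite.of_isLocalizedModule q.primeCompl (LocalizedModule.mkLinearMap q.primeCompl Q)
  refine bijective_of_pseudoInverse _ _ (algebraMap B (Localization.AtPrime q) '' J) le_rfl ?_ hP hQ
  rintro _ ⟨a, ha, rfl⟩
  obtain ⟨k, σ, h1, h2⟩ := hinv a ha
  refine ⟨k, LocalizedModule.map q.primeCompl σ, fun x => ?_, fun y => ?_⟩
  · rw [← map_pow]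
    exact pseudoInverse_localized q e σ _ h1 x
  · rw [← map_pow]
    exact pseudoInverse_localized q σ e _ h2 y

/-- depth of a localised free module -/
theorem le_idealDepth_localized_free (I : Ideal (Localization.AtPrime q)) (d : ℕ)
    (h : (d : ℕ∞) ≤ LocCoh.idealDepth I (Localization.AtPrime q)) {P : Type u} [AddCommGroup P] [Module B P]
    {n : ℕ} (e : P ≃ₗ[B] (Fin n → B)) : (d : ℕ∞) ≤ LocCoh.idealDepth I (LocalizedModule q.primeCompl P) := by
  haveI : IsNoetherianRing (Localization.AtPrime q) := IsLocalization.isNoetherianRing q.primeCompl _ inferInstance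
  haveI : Module.Finite B P := Module.Finite.equiv e.symm
  haveI : Module.Finite (Localization.AtPrime q) (LocalizedModule q.primeCompl P) :=
    Module.Finite.of_isLocalizedModule q.primeCompl (LocalizedModule.mkLinearMap q.primeCompl P)
  rw [GrothLib.Depth.idealDepth_eq_of_equiv (R := Localization.AtPrime q) (N := Fin n → Localization.AtPrime q) _
    ((LocalizedModule.equivTensorProduct q.primeCompl P).trans
      ((LinearEquiv.baseChange B (Localization.AtPrime q) _ _ e).trans
        (TensorProduct.piScalarRight B (Localization.AtPrime q) (Localization.AtPrime q) (Fin n))))]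
  exact GrothLib.DepthKer.le_idealDepth_pi _ _ h n

/-- depth of a localised dual -/
theorem two_le_depth_localized_dual (I : Ideal (Localization.AtPrime q))
    (h2 : 2 ≤ LocCoh.idealDepth I (Localization.AtPrime q)) (D : Type u) [AddCommGroup D] [Module B D]
    [Module.Finite B D] : 2 ≤ LocCoh.idealDepth I (LocalizedModule q.primeCompl (Module.Dual B D)) := by
  classical
  haveI : IsNoetherianRing (Localization.AtPrime q) := IsLocalization.isNoetherianRing q.primeCompl _ inferInstance
  obtain ⟨n, π, hπ⟩ := Module.Finite.exists_fin' B D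
  haveI : Module.Finite B (LinearMap.ker π) := Module.Finite.iff_fg.2 (IsNoetherian.noetherian _)
  obtain ⟨m, κ, hκ⟩ := Module.Finite.exists_fin' B (LinearMap.ker π)
  haveI := finite_dual (B := B) D
  let u := ((LinearMap.ker π).subtype.comp κ).dualMap
  have hex : Exact π.dualMap u := by
    intro φ
    refine ⟨fun hφ => ?_, ?_⟩
    · have hk : LinearMap.ker π ≤ LinearMap.ker φ := fun x hx => by
        obtain ⟨c, hc⟩ := hκ ⟨x, hx⟩
        have := LinearMap.congr_fun hφ c
        show φ x = 0
        simpa [u, hc] using this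
      refine ⟨((LinearMap.ker π).liftQ φ hk).comp (π.quotKerEquivOfSurjective hπ).symm.toLinearMap, ?_⟩
      refine LinearMap.ext fun x => ?_
      show (LinearMap.ker π).liftQ φ hk ((π.quotKerEquivOfSurjective hπ).symm (π x)) = φ x
      rw [show π x = π.quotKerEquivOfSurjective hπ (Submodule.Quotient.mk x) from rfl, LinearEquiv.symm_apply_apply]
      rfl
    · rintro ⟨ψ, rfl⟩
      refine LinearMap.ext fun c => ?_
      show ψ (π (κ c : Fin n → B)) = 0
      rw [LinearMap.mem_ker.1 (κ c).2, map_zero]
  haveI : Module.Finite B (Module.Dual B (Fin n → B)) := Module.Finite.equiv (Pi.basisFun B (Fin n)).toDualEquiv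
  haveI : Module.Finite B (Module.Dual B (Fin m → B)) := Module.Finite.equiv (Pi.basisFun B (Fin m)).toDualEquiv
  haveI : Module.Finite (Localization.AtPrime q) (LocalizedModule q.primeCompl (Module.Dual B D)) :=
    Module.Finite.of_isLocalizedModule q.primeCompl (LocalizedModule.mkLinearMap q.primeCompl _)
  haveI : Module.Finite (Localization.AtPrime q) (LocalizedModule q.primeCompl (Module.Dual B (Fin n → B))) :=
    Module.Finite.of_isLocalizedModule q.primeCompl (LocalizedModule.mkLinearMap q.primeCompl _)
  haveI : Module.Finite (Localization.AtPrime q) (LocalizedModule q.primeCompl (Module.Dual B (Fin m → B))) :=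
    Module.Finite.of_isLocalizedModule q.primeCompl (LocalizedModule.mkLinearMap q.primeCompl _)
  exact GrothLib.DepthKer.two_le_of_exact I (LocalizedModule.map q.primeCompl π.dualMap)
    (LocalizedModule.map q.primeCompl u)
    (LocalizedModule.map_injective _ _ (LinearMap.dualMap_injective_of_surjective hπ))
    (LocalizedModule.map_exact _ _ _ hex)
    (le_idealDepth_localized_free q I 2 h2 (Pi.basisFun B (Fin n)).toDualEquiv.symm)
    (le_idealDepth_localized_free q I 1 ((one_le_two).trans h2) (Pi.basisFun B (Fin m)).toDualEquiv.symm)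

end GrothLib.FlatOff
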