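import Mathlib
import Groth.Prelude.Def_EGA4b

/-!
# Localisation along a surjection of rings
-/

set_option autoImplicit false
set_option linter.style.haveILetI false
universe u

open Function

namespace GrothLib.FlatOff

variable {B B' : Type u} [CommRing B] [CommRing B'] [Algebra B B'] (q : Ideal B) [q.IsPrime]
  (q' : Ideal B') [q'.IsPrime] (hq : q'.comap (algebraMap B B') = q)

include hq in
/-- along a surjection, the localisation at `q'` is also the localisation at `q` -/
theorem isLocalizedModule_of_surjective (hsurj : Surjective (algebraMap B B')) (N : Type u) [AddCommGroup N]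
    [Module B' N] [Module B N] [IsScalarTower B B' N] :
    IsLocalizedModule q.primeCompl ((LocalizedModule.mkLinearMap q'.primeCompl N).restrictScalars B) := by
  have hmem : ∀ b : B, b ∈ q.primeCompl → algebraMap B B' b ∈ q'.primeCompl := fun b hb h =>
    hb (hq ▸ (Ideal.mem_comap.2 h))
  constructor
  · intro s
    rw [Module.End.isUnit_iff]
    have h := (Module.End.isUnit_iff _).1 (IsLocalizedModule.map_units
      (LocalizedModule.mkLinearMap q'.primeCompl N) ⟨algebraMap B B' s, hmem _ s.2⟩)
    convert h using 1
    funext z
    show (s : B) • z = algebraMap B B' s • z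
    rw [algebraMap_smul]
  · intro z
    obtain ⟨⟨m, t⟩, ht⟩ := IsLocalizedModule.surj q'.primeCompl (LocalizedModule.mkLinearMap q'.primeCompl N) z
    obtain ⟨s, hs⟩ := hsurj (t : B')
    have hsq : s ∈ q.primeCompl := fun h => t.2 (hs ▸ (Ideal.mem_comap.1 (hq.symm ▸ h)))
    refine ⟨(m, ⟨s, hsq⟩), ?_⟩
    show s • z = LocalizedModule.mkLinearMap q'.primeCompl N m
    rw [← ht, ← algebraMap_smul B' s z, hs]
    rfl
  · intro x y hxy
    obtain ⟨t, ht⟩ := IsLocalizedModule.exists_of_eq (S := q'.primeCompl)
      (f := LocalizedModule.mkLinearMap q'.primeCompl N) hxy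
    obtain ⟨s, hs⟩ := hsurj (t : B')
    have hsq : s ∈ q.primeCompl := fun h => t.2 (hs ▸ (Ideal.mem_comap.1 (hq.symm ▸ h)))
    refine ⟨⟨s, hsq⟩, ?_⟩
    show s • x = s • y
    rw [← algebraMap_smul B' s x, ← algebraMap_smul B' s y, hs]
    exact ht

include hq in
/-- a quotient `E → N` by `I • E` localises to the quotient of `E_q` -/
theorem exists_localized_quot_equiv (hsurj : Surjective (algebraMap B B')) (I : Ideal B)
    {E N : Type u} [AddCommGroup E] [Module B E] [AddCommGroup N] [Module B' N] [Module B N] [IsScalarTower B B' N]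
    (π : E →ₗ[B] N) (hπ : Surjective π) (hker : LinearMap.ker π = I • (⊤ : Submodule B E))
    [Algebra (Localization.AtPrime q) (Localization.AtPrime q')]
    [IsScalarTower B (Localization.AtPrime q) (Localization.AtPrime q')]
    [Module (Localization.AtPrime q) (LocalizedModule q'.primeCompl N)]
    [IsScalarTower (Localization.AtPrime q) (Localization.AtPrime q') (LocalizedModule q'.primeCompl N)] :
    ∃ e : (LocalizedModule q.primeCompl E ⧸ (I.map (algebraMap B (Localization.AtPrime q)) •
        (⊤ : Submodule (Localization.AtPrime q) (LocalizedModule q.primeCompl E))))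
      ≃ₗ[Localization.AtPrime q] LocalizedModule q'.primeCompl N,
      ∀ x, e (Submodule.Quotient.mk (LocalizedModule.mkLinearMap q.primeCompl E x)) =
        LocalizedModule.mkLinearMap q'.primeCompl N (π x) := by
  haveI := isLocalizedModule_of_surjective q q' hq hsurj N
  haveI : IsScalarTower B (Localization.AtPrime q) (LocalizedModule q'.primeCompl N) :=
    IsScalarTower.of_algebraMap_smul fun b z => by
      rw [← algebraMap_smul (Localization.AtPrime q') (algebraMap B (Localization.AtPrime q) b) z,
        ← IsScalarTower.algebraMap_apply B (Localization.AtPrime q) (Localization.AtPrime q'),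
        algebraMap_smul]
  let X := Localization.AtPrime q
  let ℓE := LocalizedModule.mkLinearMap q.primeCompl E
  let ℓN := (LocalizedModule.mkLinearMap q'.primeCompl N).restrictScalars B
  let ι := IsLocalizedModule.mapExtendScalars q.primeCompl ℓE ℓN X π
  have hι : ∀ x, ι (ℓE x) = ℓN (π x) := fun x => IsLocalizedModule.map_apply q.primeCompl ℓE ℓN π x
  have hs : Surjective ι := IsLocalizedModule.map_surjective q.primeCompl ℓE ℓN π hπ
  have hk : LinearMap.ker ι = I.map (algebraMap B X) • (⊤ : Submodule X (LocalizedModule q.primeCompl E)) := by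
    refine le_antisymm (fun z hz => ?_) (Submodule.smul_le.2 fun b hb w _ => ?_)
    · obtain ⟨⟨x, s⟩, hx⟩ := IsLocalizedModule.surj q.primeCompl ℓE z
      have hx' : algebraMap B X s • z = ℓE x := (algebraMap_smul X (s : B) z).trans hx
      have h0 : ℓN (π x) = 0 := by rw [← hι, ← hx', map_smul, LinearMap.mem_ker.1 hz, smul_zero]
      obtain ⟨c, hc⟩ := (IsLocalizedModule.eq_zero_iff q.primeCompl ℓN).1 h0
      have hcx : (c : B) • x ∈ LinearMap.ker π := by rw [LinearMap.mem_ker, map_smul]; exact hc
      rw [hker] at hcx
      have hle : ∀ w ∈ (I • ⊤ : Submodule B E), ℓE w ∈ I.map (algebraMap B X) •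
          (⊤ : Submodule X (LocalizedModule q.primeCompl E)) := fun w hw => by
        induction hw using Submodule.smul_induction_on' with
        | smul r hr y _ =>
          rw [map_smul, ← algebraMap_smul X r]
          exact Submodule.smul_mem_smul (Ideal.mem_map_of_mem _ hr) Submodule.mem_top
        | add a ha b hb iha ihb => rw [map_add]; exact add_mem iha ihb
      have h1 := hle _ hcx
      rw [map_smul, ← algebraMap_smul X (c : B), ← hx', smul_smul] at h1
      have hu : IsUnit (algebraMap B X c * algebraMap B X s) :=
        (IsLocalization.map_units X c).mul (IsLocalization.map_units X s)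
      obtain ⟨v, hv⟩ := hu
      have := Submodule.smul_mem _ ((v⁻¹ : Xˣ) : X) h1
      rwa [smul_smul, ← hv, Units.inv_mul, one_smul] at this
    · obtain ⟨⟨x, s⟩, hx⟩ := IsLocalizedModule.surj q.primeCompl ℓE w
      rw [LinearMap.mem_ker, map_smul]
      induction hb using Submodule.span_induction with
      | mem b hb =>
        obtain ⟨r, hr, rfl⟩ := hb
        have h0 : algebraMap B X r • ι (ℓE x) = 0 := by
          rw [hι, algebraMap_smul, ← map_smul, ← map_smul]
          have : r • x ∈ LinearMap.ker π := hker ▸ Submodule.smul_mem_smul hr Submodule.mem_top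
          rw [LinearMap.mem_ker.1 this, map_zero]
        have hu := IsLocalization.map_units X s
        refine hu.smul_left_cancel.1 ?_
        rw [smul_comm, ← map_smul, algebraMap_smul X (s : B) w, smul_zero, show (s : B) • w = ℓE x from hx, h0]
      | zero => rw [zero_smul]
      | add a b _ _ ha hb => rw [add_smul, ha, hb, add_zero]
      | smul c b _ hb => rw [smul_eq_mul, mul_smul, hb, smul_zero]
  refine ⟨(Submodule.quotEquivOfEq _ _ hk.symm).trans (ι.quotKerEquivOfSurjective hs), fun x => ?_⟩
  exact hι x

end GrothLib.FlatOff
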