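import Groth.Agent.Lib.FlatOff.Homotopy
import Groth.Agent.Lib.FlatOff.PseudoIso
import Groth.Agent.Lib.FlatOff.SurjLoc
import Groth.Agent.Lib.FlatOff.FibSk
import Groth.Agent.Lib.FlatOff.FibRing
import Groth.Agent.Lib.FlatOff.LocalKey
import Groth.Agent.Lib.FlatOff.Depth
import Groth.Agent.Lib.Flatness.Criterion

/-!
# The infinitesimal criterion: flatness of the cokernel from `(S₂)` of double duals
-/

set_option autoImplicit false
set_option linter.style.haveILetI false
universe u

open Function IsLocalRing TensorProduct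

namespace GrothLib.FlatOff

/-- a quotient by `I • P` does not change the tensor product with modules killed by `I` -/
theorem rTensor_injective_of_kill {R : Type u} [CommRing R] (I : Ideal R) {P Q L : Type u} [AddCommGroup P]
    [Module R P] [AddCommGroup Q] [Module R Q] [AddCommGroup L] [Module R L] (π : P →ₗ[R] Q) (hπ : Surjective π)
    (hker : LinearMap.ker π ≤ I • (⊤ : Submodule R P)) (hL : ∀ r ∈ I, ∀ l : L, r • l = 0) :
    Injective (π.rTensor L) := by
  rw [injective_iff_map_eq_zero]
  intro z hz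
  obtain ⟨w, rfl⟩ := (rTensor_exact L (LinearMap.exact_subtype_ker_map π) hπ z).1 hz
  clear hz
  have key : ∀ (l : L) (x : P), x ∈ I • (⊤ : Submodule R P) → x ⊗ₜ[R] l = 0 := fun l x hx => by
    induction hx using Submodule.smul_induction_on' with
    | smul r hr x _ => rw [TensorProduct.smul_tmul, hL r hr, tmul_zero]
    | add a _ b _ ha hb => rw [add_tmul, ha, hb, add_zero]
  induction w using TensorProduct.induction_on with
  | zero => rw [map_zero]
  | add a b ha hb => rw [map_add, ha, hb, add_zero]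
  | tmul k l => exact key l _ (hker k.2)

/-- factorisations localise -/
theorem localized_factor {B : Type u} [CommRing B] [IsNoetherianRing B] (q : Ideal B) [q.IsPrime] {K : Type u} [AddCommGroup K]
    [Module B K] {k : ℕ} (α : K →ₗ[B] (Fin k → B)) (β : (Fin k → B) →ₗ[B] K) (s : B)
    (h : ∀ x, β (α x) = s • x) :
    ∃ (α' : LocalizedModule q.primeCompl K →ₗ[Localization.AtPrime q] (Fin k → Localization.AtPrime q))
      (β' : (Fin k → Localization.AtPrime q) →ₗ[Localization.AtPrime q] LocalizedModule q.primeCompl K),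
      ∀ z, β' (α' z) = algebraMap B (Localization.AtPrime q) s • z := by
  let X := Localization.AtPrime q
  let e : LocalizedModule q.primeCompl (Fin k → B) ≃ₗ[X] (Fin k → X) :=
    (LocalizedModule.equivTensorProduct q.primeCompl (Fin k → B)).trans (TensorProduct.piScalarRight B X X (Fin k))
  refine ⟨e.toLinearMap.comp (LocalizedModule.map q.primeCompl α),
    (LocalizedModule.map q.primeCompl β).comp e.symm.toLinearMap, fun z => ?_⟩
  show LocalizedModule.map q.primeCompl β (e.symm (e (LocalizedModule.map q.primeCompl α z))) = _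
  rw [e.symm_apply_apply]
  exact pseudoInverse_localized q α β s h z

theorem isArtinianRing_quotient_pow {R : Type u} [CommRing R] [IsNoetherianRing R] [IsLocalRing R] (k : ℕ) :
    IsArtinianRing (R ⧸ maximalIdeal R ^ (k + 1)) := by
  have h := GrothLib.BCCoh.isFiniteLength_quotient_pow (A := R) k
  rw [isFiniteLength_iff_isNoetherian_isArtinian] at h
  haveI := h.2
  exact isArtinian_of_tower R inferInstance

section Step

variable {A B : Type u} [CommRing A] [CommRing B] [IsNoetherianRing A] [IsNoetherianRing B] [Algebra A B]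
  [IsArtinianRing A] [IsLocalRing A] [Module.Flat A B] (J : Ideal B) (q : Ideal B) [q.IsPrime]
  {N M : ℕ} {F : Type u} [AddCommGroup F] [Module B F] [Module.Finite B F]
  (g : F →ₗ[B] (Fin N → B)) (h : (Fin N → B) →ₗ[B] (Fin M → B))

theorem flatAt_coker_of_hasSk
    (hS2 : LocCoh.HasSk 2 (EGA4.FibLocRing A B q) (EGA4.FibLocRing A B q))
    (hcodim : ∀ r : PrimeSpectrum B, J ≤ r.asIdeal → (2 : WithBot ℕ∞) ≤ ringKrullDim (EGA4.FibLocRing A B r.asIdeal))
    (hgh : ∀ x, h (g x) = 0)
    (hhom : ∀ a ∈ J, ∃ (k : ℕ) (t : (Fin N → B) →ₗ[B] F) (s : (Fin M → B) →ₗ[B] (Fin N → B)),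
      (∀ x, t (g x) = a ^ k • x) ∧ ∀ y, g (t y) + s (h y) = a ^ k • y)
    (hG : ∀ r : PrimeSpectrum B, ¬ J ≤ r.asIdeal → ∃ (k : ℕ) (α : ((Fin M → B) ⧸ LinearMap.range h) →ₗ[B] (Fin k → B))
      (β : (Fin k → B) →ₗ[B] ((Fin M → B) ⧸ LinearMap.range h)) (s : r.asIdeal.primeCompl),
        ∀ x, β (α x) = (s : B) • x)
    (hdd : FlatCA.FlatAt A q (Module.Dual B (Module.Dual B F)) ∧
      LocCoh.HasSk 2 (EGA4.FibLocRing A B q) (EGA4.FibLocMod A B q (Module.Dual B (Module.Dual B F)))) :
    FlatCA.FlatAt A q ((Fin M → B) ⧸ LinearMap.range h) := by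
  classical
  let X := Localization.AtPrime q
  let D := EGA4.FibLocRing A B q
  haveI : IsNoetherianRing X := IsLocalization.isNoetherianRing q.primeCompl _ inferInstance
  haveI : Module.Flat A X := Module.Flat.trans A B X
  haveI : Module.Flat A (Fin N → B) := Module.Flat.trans A B _
  haveI : Module.Flat A (Fin M → B) := Module.Flat.trans A B _
  have hprime : ∀ P : Ideal A, P.IsPrime → P = maximalIdeal A := fun P hP =>
    eq_maximalIdeal (IsArtinianRing.isMaximal_of_isPrime P)
  have hD : 2 ≤ LocCoh.idealDepth (J.map (algebraMap B D)) D :=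
    two_le_depth_fibLocRing J q hS2 fun r hr _ => hcodim r hr
  have hDX : 2 ≤ LocCoh.idealDepth (J.map (algebraMap B X)) X := by
    have hfib : ((2 : ℕ) : ℕ∞) ≤ LocCoh.idealDepth (J.map (algebraMap B X)) (EGA4.FibMod A X X) := by
      have heq : (EGA4.mB A X • (⊤ : Submodule X X)) = (q.comap (algebraMap A B)).map (algebraMap A X) := by
        rw [smul_eq_mul, Ideal.mul_top, hprime _ (Ideal.comap_isPrime _ _)]
      rw [GrothLib.Depth.idealDepth_eq_of_equiv (R := X) (N := D) _ (Submodule.quotEquivOfEq _ _ heq),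
        ← GrothLib.Depth.idealDepth_map_eq (B := D), Ideal.map_map, ← IsScalarTower.algebraMap_eq]
      exact_mod_cast hD
    have hfl : IsFiniteLength A A := isFiniteLength_iff_isNoetherian_isArtinian.2 ⟨inferInstance, inferInstance⟩
    have h2 := le_idealDepth_tensor (A := A) (B := X) (M := X) (J.map (algebraMap B X)) 2 hfib hfl
    rw [GrothLib.Depth.idealDepth_eq_of_equiv (R := X) (N := X) _ (AlgebraTensorModule.rid A X X)] at h2
    exact_mod_cast h2
  let K := LinearMap.ker h
  let dd := Module.Dual B (Module.Dual B F)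
  haveI := finite_dual (B := B) F
  haveI := finite_dual (B := B) (Module.Dual B F)
  haveI : Module.Finite B K := Module.Finite.iff_fg.2 (IsNoetherian.noetherian _)
  let p : Fin N → Module.Dual B F := fun i => (LinearMap.proj i).comp g
  let Θ₀ : dd →ₗ[B] (Fin N → B) :=
    { toFun := fun θ i => θ (p i), map_add' := fun _ _ => rfl, map_smul' := fun _ _ => rfl }
  have hexp : ∀ v : Fin N → B, v = ∑ i, v i • (Pi.single i (1 : B) : Fin N → B) := fun v => by
    funext j; simp [Finset.sum_apply, Pi.single_apply]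
  have hΘ₀ : ∀ θ, h (Θ₀ θ) = 0 := fun θ => by
    funext j
    have e1 : ∑ i, h (Pi.single i 1) j • p i = 0 := LinearMap.ext fun z => by
      have := congrFun (hgh z) j
      rw [hexp (g z), map_sum, Finset.sum_apply] at this
      simp only [map_smul, Pi.smul_apply, smul_eq_mul, Pi.zero_apply] at this
      rw [LinearMap.sum_apply, LinearMap.zero_apply]
      refine Eq.trans (Finset.sum_congr rfl fun i _ => ?_) this
      show h (Pi.single i 1) j * g z i = g z i * h (Pi.single i 1) j
      exact mul_comm _ _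
    have := congrArg θ e1
    rw [map_zero, map_sum] at this
    rw [hexp (Θ₀ θ), map_sum, Finset.sum_apply, Pi.zero_apply]
    refine Eq.trans (Finset.sum_congr rfl fun i _ => ?_) this
    rw [map_smul, map_smul, Pi.smul_apply, smul_eq_mul, smul_eq_mul, mul_comm]
    rfl
  let Θ : dd →ₗ[B] K := Θ₀.codRestrict _ fun θ => LinearMap.mem_ker.2 (hΘ₀ θ)
  let ev := Module.Dual.eval B F
  have hΘev : ∀ x, Θ₀ (ev x) = g x := fun x => rfl
  have hback : ∀ (t : (Fin N → B) →ₗ[B] F) (c : B), (∀ x, t (g x) = c • x) → ∀ θ : dd, ev (t (Θ₀ θ)) = c • θ := by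
    intro t c htc θ
    refine LinearMap.ext fun φ => ?_
    show φ (t (Θ₀ θ)) = c * θ φ
    have e2 : ∑ i, φ (t (Pi.single i 1)) • p i = c • φ := LinearMap.ext fun z => by
      rw [LinearMap.smul_apply, ← map_smul φ, ← htc z, LinearMap.sum_apply]
      conv_rhs => rw [hexp (g z), map_sum, map_sum]
      refine Finset.sum_congr rfl fun i _ => ?_
      rw [map_smul, map_smul, smul_eq_mul, mul_comm]
      rfl
    have := congrArg θ e2
    rw [map_sum, map_smul, smul_eq_mul] at this
    rw [← this, hexp (Θ₀ θ), map_sum, map_sum]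
    refine Finset.sum_congr rfl fun i _ => ?_
    rw [map_smul, map_smul, map_smul, smul_eq_mul, smul_eq_mul, mul_comm]
    rfl
  have hinv : ∀ a ∈ J, ∃ (k : ℕ) (σ : K →ₗ[B] dd), (∀ x, σ (Θ x) = a ^ k • x) ∧ ∀ y, Θ (σ y) = a ^ k • y := by
    intro a ha
    obtain ⟨k, t, s, htg, hgt⟩ := hhom a ha
    refine ⟨k, (ev.comp t).comp K.subtype, fun θ => hback t _ htg θ, fun y => Subtype.ext ?_⟩
    show Θ₀ (ev (t y.1)) = a ^ k • y.1
    have := hgt y.1
    rwa [LinearMap.mem_ker.1 y.2, map_zero, add_zero] at this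
  have hddX : 2 ≤ LocCoh.idealDepth (J.map (algebraMap B X)) (LocalizedModule q.primeCompl dd) :=
    two_le_depth_localized_dual q _ hDX (Module.Dual B F)
  haveI : Module.Finite X (LocalizedModule q.primeCompl K) :=
    Module.Finite.of_isLocalizedModule q.primeCompl (LocalizedModule.mkLinearMap q.primeCompl K)
  haveI : Module.Finite X (LocalizedModule q.primeCompl dd) :=
    Module.Finite.of_isLocalizedModule q.primeCompl (LocalizedModule.mkLinearMap q.primeCompl dd)
  haveI : Module.Finite X (LocalizedModule q.primeCompl (Fin N → B)) :=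
    Module.Finite.of_isLocalizedModule q.primeCompl (LocalizedModule.mkLinearMap q.primeCompl _)
  haveI : Module.Finite X (LocalizedModule q.primeCompl (Fin M → B)) :=
    Module.Finite.of_isLocalizedModule q.primeCompl (LocalizedModule.mkLinearMap q.primeCompl _)
  have hexK : Function.Exact K.subtype h := LinearMap.exact_subtype_ker_map h
  have hKX : 2 ≤ LocCoh.idealDepth (J.map (algebraMap B X)) (LocalizedModule q.primeCompl K) :=
    GrothLib.DepthKer.two_le_of_exact _ (LocalizedModule.map q.primeCompl K.subtype)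
      (LocalizedModule.map q.primeCompl h) (LocalizedModule.map_injective _ _ K.injective_subtype)
      (LocalizedModule.map_exact _ _ _ hexK)
      (le_idealDepth_localized_free q _ 2 hDX (LinearEquiv.refl B (Fin N → B)))
      (le_idealDepth_localized_free q _ 1 ((one_le_two).trans hDX) (LinearEquiv.refl B (Fin M → B)))
  let eΘ : LocalizedModule q.primeCompl dd ≃ₗ[X] LocalizedModule q.primeCompl K :=
    LinearEquiv.ofBijective (LocalizedModule.map q.primeCompl Θ)
      (bijective_localized q J Θ hinv hddX ((one_le_two).trans hKX))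
  have hKflat : FlatCA.FlatAt A q K := by
    haveI : Module.Flat A (LocalizedModule q.primeCompl dd) := hdd.1
    exact Module.Flat.of_linearEquiv (eΘ.restrictScalars A).symm
  let I : Ideal X := (q.comap (algebraMap A B)).map (algebraMap A X)
  have hI : ∀ Q : Ideal X, Q.IsPrime → I ≤ Q := fun Q hQ => Ideal.map_le_iff_le_comap.2 (by
    rw [hprime (q.comap (algebraMap A B)) (Ideal.comap_isPrime _ _),
      hprime (Q.comap (algebraMap A X)) (Ideal.comap_isPrime _ _)])
  have hTF : TF (J.map (algebraMap B X)) (LocalizedModule q.primeCompl dd) :=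
    tf_of_idealDepth ((one_le_two).trans hddX)
  have hfree : ∀ Q : Ideal X, Q.IsPrime → ¬ J.map (algebraMap B X) ≤ Q → ∃ (k : ℕ)
      (α : LocalizedModule q.primeCompl dd →ₗ[X] (Fin k → X))
      (β : (Fin k → X) →ₗ[X] LocalizedModule q.primeCompl dd) (s : X), s ∉ Q ∧ ∀ x, β (α x) = s • x := by
    intro Q hQ hJQ
    obtain ⟨a, ha, haQ⟩ := Set.not_subset.1 (show ¬ (J : Set B) ⊆ Q.comap (algebraMap B X) from
      fun hs => hJQ (Ideal.map_le_iff_le_comap.2 hs))
    obtain ⟨k, t, s, htg, -⟩ := hhom a ha
    obtain ⟨α', β', h'⟩ := localized_factor q Θ₀ (ev.comp t) (a ^ k) (fun θ => hback t _ htg θ)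
    exact ⟨N, α', β', _, fun hmem => haQ (hQ.mem_of_pow_mem k (by rwa [map_pow] at hmem)), h'⟩
  have hJD : J.map (algebraMap B D) = (J.map (algebraMap B X)).map (Ideal.Quotient.mk I) := by
    rw [Ideal.map_map]; rfl
  have hddfib : 2 ≤ LocCoh.idealDepth (J.map (algebraMap B D)) (EGA4.FibLocMod A B q dd) := by
    rw [hJD]
    exact two_le_depth_of_hasSk I (J.map (algebraMap B X)) hI hTF hfree (hJD ▸ hD) hdd.2
  have hKfib : 2 ≤ LocCoh.idealDepth (J.map (algebraMap B D)) (EGA4.FibLocMod A B q K) := by
    let efib : EGA4.FibLocMod A B q dd ≃ₗ[X] EGA4.FibLocMod A B q K := Submodule.Quotient.equiv _ _ eΘ (by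
      rw [Submodule.map_smul'', Submodule.map_top, LinearEquiv.range])
    haveI : Module.Finite X (EGA4.FibLocMod A B q dd) := inferInstance
    haveI : Module.Finite X (EGA4.FibLocMod A B q K) := Module.Finite.equiv efib
    haveI : Module.Finite D (EGA4.FibLocMod A B q dd) := Module.Finite.of_restrictScalars_finite X D _
    haveI : Module.Finite D (EGA4.FibLocMod A B q K) := Module.Finite.of_restrictScalars_finite X D _
    rw [IsScalarTower.algebraMap_eq B X D, ← Ideal.map_map, GrothLib.Depth.idealDepth_map_eq] at hddfib ⊢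
    exact hddfib.trans (GrothLib.Depth.idealDepth_eq_of_equiv _ efib).le
  have h0 : ∀ n : ℕ, 2 ≤ LocCoh.idealDepth (J.map (algebraMap B X)) (EGA4.FibLocMod A B q (Fin n → B)) :=
    fun n => by exact_mod_cast le_idealDepth_fibLocMod_free J q 2 (by exact_mod_cast hD) n
  exact (key_at_prime J K.subtype h (LinearMap.range h).mkQ K.injective_subtype hexK
    (LinearMap.exact_map_mkQ_range h) (Submodule.mkQ_surjective _) hG q (h0 N)
    ((one_le_two).trans (h0 M))).2 ⟨hKflat, hKfib⟩

end Step

end GrothLib.FlatOff
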