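import Mathlib
import Groth.Agent.Lib.FlatOff.BasePullback

/-!
# Depth of a fibre stalk along `J` from the fibre depths at the primes containing `J`
-/

set_option autoImplicit false
universe u

open TensorProduct Function IsLocalRing

namespace GrothLib.FlatOff

/-- `X ⊗ (N/IN)` is `(X ⊗ N)/I(X ⊗ N)` -/
theorem nonempty_tensor_quot_module {R X N : Type u} [CommRing R] [CommRing X] [Algebra R X] [AddCommGroup N]
    [Module R N] (I : Ideal R) :
    Nonempty ((((X ⊗[R] N) ⧸ (I.map (algebraMap R X) • ⊤ : Submodule X (X ⊗[R] N)))) ≃ₗ[X]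
      X ⊗[R] (N ⧸ (I • ⊤ : Submodule R N))) := by
  let φ : X ⊗[R] N →ₗ[X] X ⊗[R] (N ⧸ (I • ⊤ : Submodule R N)) :=
    AlgebraTensorModule.lTensor X X (I • ⊤ : Submodule R N).mkQ
  have hs : Surjective φ := LinearMap.lTensor_surjective X (Submodule.mkQ_surjective _)
  have hker : LinearMap.ker φ = I.map (algebraMap R X) • (⊤ : Submodule X (X ⊗[R] N)) := by
    rw [← range_lTensor_smul_top]
    ext z
    exact lTensor_exact X (LinearMap.exact_subtype_mkQ _) (Submodule.mkQ_surjective _) z
  exact ⟨(Submodule.quotEquivOfEq _ _ hker.symm).trans (φ.quotKerEquivOfSurjective hs)⟩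

variable {A B : Type u} [CommRing A] [CommRing B] [Algebra A B] [IsNoetherianRing B]
  (E : Type u) [AddCommGroup E] [Module B E] [Module.Finite B E]

theorem nonempty_fibLocMod_equiv (q : Ideal B) [q.IsPrime] :
    Nonempty ((Localization.AtPrime q ⊗[B] (E ⧸ ((q.comap (algebraMap A B)).map (algebraMap A B) • ⊤ : Submodule B E)))
      ≃ₗ[Localization.AtPrime q] EGA4.FibLocMod A B q E) := by
  let X := Localization.AtPrime q
  let I := (q.comap (algebraMap A B)).map (algebraMap A B)
  obtain ⟨e⟩ := nonempty_tensor_quot_module (R := B) (X := X) (N := E) I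
  refine ⟨e.symm.trans (Submodule.Quotient.equiv _ _ (LocalizedModule.equivTensorProduct q.primeCompl E).symm ?_)⟩
  rw [Submodule.map_smul'', Submodule.map_top, LinearEquiv.range, Ideal.map_map, ← IsScalarTower.algebraMap_eq]

theorem le_idealDepth_fibLocMod' (J : Ideal B) (q : Ideal B) [q.IsPrime] (n : ℕ)
    (h : ∀ (r : PrimeSpectrum B), r.asIdeal ≤ q → J ≤ r.asIdeal →
      r.asIdeal.comap (algebraMap A B) = q.comap (algebraMap A B) →
      (n : ℕ∞) ≤ LocCoh.idealDepth (r.asIdeal.map (algebraMap B (EGA4.FibLocRing A B r.asIdeal)))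
        (EGA4.FibLocMod A B r.asIdeal E)) :
    (n : ℕ∞) ≤ LocCoh.idealDepth (J.map (algebraMap B (Localization.AtPrime q))) (EGA4.FibLocMod A B q E) := by
  let X := Localization.AtPrime q
  haveI : IsNoetherianRing X := IsLocalization.isNoetherianRing q.primeCompl _ inferInstance
  let p := q.comap (algebraMap A B)
  let N := E ⧸ (p.map (algebraMap A B) • ⊤ : Submodule B E)
  let M := EGA4.FibLocMod A B q E
  obtain ⟨eq⟩ := nonempty_fibLocMod_equiv (A := A) E q
  haveI : Module.Finite X M := Module.Finite.equiv eq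
  cases hd : LocCoh.idealDepth (J.map (algebraMap B X)) M using ENat.recTopCoe with
  | top => exact le_top
  | coe d =>
    obtain ⟨P, hP, hle⟩ := GrothLib.Depth.exists_depth_localization_le _ d hd
    let Z := Localization.AtPrime P.asIdeal
    haveI : IsNoetherianRing Z := IsLocalization.isNoetherianRing P.asIdeal.primeCompl _ inferInstance
    let r : PrimeSpectrum B := ⟨P.asIdeal.comap (algebraMap B X), inferInstance⟩
    have hrq : r.asIdeal ≤ q := fun b hb => by
      by_contra hbq
      exact Ideal.IsPrime.ne_top inferInstance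
        (Ideal.eq_top_of_isUnit_mem _ (show algebraMap B X b ∈ P.asIdeal from hb)
          (IsLocalization.map_units X (⟨b, hbq⟩ : q.primeCompl)))
    let eP : LocalizedModule P.asIdeal.primeCompl M ≃ₗ[Z] Z ⊗[B] N :=
      (LocalizedModule.equivTensorProduct P.asIdeal.primeCompl M).trans
        ((LinearEquiv.baseChange X Z _ _ eq.symm).trans (AlgebraTensorModule.cancelBaseChange B X Z Z N))
    haveI : Module.Finite Z (Z ⊗[B] N) := inferInstance
    haveI : Module.Finite Z (LocalizedModule P.asIdeal.primeCompl M) := Module.Finite.equiv eP.symm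
    refine le_trans ?_ hle
    rw [LocCoh.depth, GrothLib.Depth.idealDepth_eq_of_equiv (R := Z) (N := Z ⊗[B] N) _ eP]
    by_cases hpr : p ≤ r.asIdeal.comap (algebraMap A B)
    · have hp : r.asIdeal.comap (algebraMap A B) = p := le_antisymm (Ideal.comap_mono hrq) hpr
      have hr := h r hrq (Ideal.map_le_iff_le_comap.1 hP) hp
      let R := Localization.AtPrime r.asIdeal
      haveI : IsNoetherianRing R := IsLocalization.isNoetherianRing r.asIdeal.primeCompl _ inferInstance
      haveI : IsScalarTower B X Z := inferInstance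
      let ψ : R →+* Z := IsLocalization.lift (M := r.asIdeal.primeCompl) (g := algebraMap B Z) (fun b => by
        rw [IsScalarTower.algebraMap_apply B X Z]
        exact IsLocalization.map_units Z (⟨algebraMap B X b, b.2⟩ : P.asIdeal.primeCompl))
      letI : Algebra R Z := ψ.toAlgebra
      haveI : IsScalarTower B R Z := IsScalarTower.of_algebraMap_eq fun b => (IsLocalization.lift_eq _ b).symm
      haveI : Module.Flat B Z := Module.Flat.trans B X Z
      haveI : Module.Flat R Z := (Module.flat_iff_of_isLocalization R r.asIdeal.primeCompl Z).2 ‹Module.Flat B Z›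
      obtain ⟨er⟩ := nonempty_fibLocMod_equiv (A := A) E r.asIdeal
      haveI : Module.Finite R (EGA4.FibLocMod A B r.asIdeal E) := Module.Finite.equiv er
      rw [IsScalarTower.algebraMap_eq B R (EGA4.FibLocRing A B r.asIdeal), ← Ideal.map_map,
        Localization.AtPrime.map_eq_maximalIdeal, GrothLib.Depth.idealDepth_map_eq,
        ← GrothLib.Depth.idealDepth_eq_of_equiv _ er] at hr
      have hN : N = (E ⧸ ((r.asIdeal.comap (algebraMap A B)).map (algebraMap A B) • ⊤ : Submodule B E)) := by
        rw [hp]
      let eN : (E ⧸ ((r.asIdeal.comap (algebraMap A B)).map (algebraMap A B) • ⊤ : Submodule B E)) ≃ₗ[B] N :=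
        Submodule.quotEquivOfEq _ _ (by rw [hp])
      have hr' := hr.trans (GrothLib.Depth.idealDepth_le_baseChange (B := Z) (maximalIdeal R) _)
      rw [GrothLib.Depth.idealDepth_eq_of_equiv (R := Z) (N := Z ⊗[B] N) _ ((AlgebraTensorModule.cancelBaseChange B R Z Z _).trans
        (LinearEquiv.baseChange B Z _ _ eN))] at hr'
      refine hr'.trans (GrothLib.Depth.idealDepth_mono ?_)
      rw [← Localization.AtPrime.map_eq_maximalIdeal (I := r.asIdeal), Ideal.map_map,
        ← IsScalarTower.algebraMap_eq, Ideal.map_le_iff_le_comap]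
      intro b hb
      show algebraMap B Z b ∈ maximalIdeal Z
      rw [IsScalarTower.algebraMap_apply B X Z, ← Localization.AtPrime.map_eq_maximalIdeal (I := P.asIdeal)]
      exact Ideal.mem_map_of_mem _ hb
    · obtain ⟨a, ha, har⟩ := Set.not_subset.1 hpr
      have hu : IsUnit (algebraMap B Z (algebraMap A B a)) := by
        rw [IsScalarTower.algebraMap_apply B X Z]
        exact IsLocalization.map_units Z (⟨algebraMap B X (algebraMap A B a), har⟩ : P.asIdeal.primeCompl)
      have h0 : ∀ z : Z ⊗[B] N, z = 0 := fun z => by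
        induction z using TensorProduct.induction_on with
        | zero => rfl
        | add u v hu hv => rw [hu, hv, add_zero]
        | tmul t m =>
          obtain ⟨v, hv⟩ := hu
          have hm : algebraMap A B a • m = 0 := by
            obtain ⟨e, rfl⟩ := Submodule.Quotient.mk_surjective _ m
            exact (Submodule.Quotient.mk_smul _ _ _).symm.trans ((Submodule.Quotient.mk_eq_zero _).2
              (Submodule.smul_mem_smul (Ideal.mem_map_of_mem _ ha) trivial))
          rw [show t = algebraMap A B a • (((v⁻¹ : Zˣ) : Z) * t) by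
            rw [Algebra.smul_def, ← hv, ← mul_assoc, Units.mul_inv, one_mul], TensorProduct.smul_tmul, hm, tmul_zero]
      rw [LocCoh.idealDepth, if_pos (eq_top_iff.2 fun z _ => by rw [h0 z]; exact zero_mem _)]
      exact le_top

theorem le_idealDepth_fibLocMod (J : Ideal B) (q : Ideal B) [q.IsPrime] (n : ℕ)
    (h : ∀ (r : PrimeSpectrum B), r.asIdeal ≤ q → J ≤ r.asIdeal →
      (n : ℕ∞) ≤ LocCoh.idealDepth (r.asIdeal.map (algebraMap B (EGA4.FibLocRing A B r.asIdeal)))
        (EGA4.FibLocMod A B r.asIdeal E)) :
    (n : ℕ∞) ≤ LocCoh.idealDepth (J.map (algebraMap B (Localization.AtPrime q))) (EGA4.FibLocMod A B q E) :=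
  le_idealDepth_fibLocMod' E J q n fun r h1 h2 _ => h r h1 h2

end GrothLib.FlatOff
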